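import Groth.Agent.FlatLib.GenericFree
import Mathlib

/-!
# Homomorphisms modulo an ideal of a generic point
-/

set_option autoImplicit false
universe u

open TensorProduct

namespace BddFamLib

variable {R : Type u} [CommRing R]

theorem mem_of_pow_smul_mem {N : Type u} [AddCommGroup N] [Module R N] (Q : Submodule R N) (𝔪 : Ideal R)
    {f g : R} (hg : 1 - g * f ∈ 𝔪) {x : N} (hx : x ∈ Q) {j : ℕ} (h : f ^ j • x ∈ 𝔪 • Q) : x ∈ 𝔪 • Q := by
  induction j with
  | zero => simpa using h
  | succ j ih =>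
    refine ih ?_
    have e : f ^ j • x = g • (f ^ (j + 1) • x) + (1 - g * f) • (f ^ j • x) := by
      rw [sub_smul, one_smul, smul_smul, smul_smul, show g * f * f ^ j = g * f ^ (j + 1) by ring]
      abel
    rw [e]
    exact add_mem (Submodule.smul_mem _ _ h) (Submodule.smul_mem_smul hg (Q.smul_mem _ hx))

/-- A submodule with free quotient away from `f` meets `𝔪 N` in `𝔪 Q`. -/
theorem inf_smul_le {N : Type u} [AddCommGroup N] [Module R N] (Q : Submodule R N) {f : R}
    (hfree : Module.Free (Localization.Away f) (Localization.Away f ⊗[R] (N ⧸ Q)))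
    (𝔪 : Ideal R) {g : R} (hg : 1 - g * f ∈ 𝔪) {x : N} (hxQ : x ∈ Q) (hx : x ∈ 𝔪 • (⊤ : Submodule R N)) :
    x ∈ 𝔪 • Q := by
  let L := Localization.Away f
  let π : L ⊗[R] N →ₗ[L] L ⊗[R] (N ⧸ Q) := Q.mkQ.baseChange L
  have hπ : Function.Surjective π := LinearMap.lTensor_surjective L Q.mkQ_surjective
  obtain ⟨σ, hσ⟩ := Module.projective_lifting_property π LinearMap.id hπ
  let ψ : L ⊗[R] N →ₗ[R] L ⊗[R] N := (LinearMap.id - σ ∘ₗ π).restrictScalars R
  have hker : ∀ z, π (ψ z) = 0 := fun z => by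
    show π (z - σ (π z)) = 0
    rw [map_sub, sub_eq_zero]
    exact (LinearMap.congr_fun hσ (π z)).symm
  let ι : N →ₗ[R] L ⊗[R] N := TensorProduct.mk R L N 1
  have h1 : ψ (ι x) = ι x := by
    show ι x - σ (π (ι x)) = ι x
    have : π (ι x) = 0 := by
      show (1 : L) ⊗ₜ Q.mkQ x = 0
      rw [(Submodule.Quotient.mk_eq_zero Q).2 hxQ |> fun h => (show Q.mkQ x = 0 from h), tmul_zero]
    rw [this, map_zero, sub_zero]
  have hex : Function.Exact (LinearMap.lTensor L Q.subtype) (LinearMap.lTensor L Q.mkQ) :=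
    lTensor_exact L (LinearMap.exact_subtype_mkQ Q) Q.mkQ_surjective
  have h2 : ι x ∈ 𝔪 • LinearMap.range (LinearMap.lTensor L Q.subtype) := by
    rw [← h1]
    suffices ∀ y ∈ 𝔪 • (⊤ : Submodule R N),
        ψ (ι y) ∈ 𝔪 • LinearMap.range (LinearMap.lTensor L Q.subtype) from this x hx
    intro y hy
    induction hy using Submodule.smul_induction_on' with
    | smul a ha n _ =>
      rw [map_smul, map_smul]
      exact Submodule.smul_mem_smul ha ((hex (ψ (ι n))).1 (hker _))
    | add a _ b _ ha hb => rw [map_add, map_add]; exact add_mem ha hb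
  rw [← Submodule.map_top, ← Submodule.map_smul''] at h2
  obtain ⟨z, hz, hzx⟩ := Submodule.mem_map.1 h2
  haveI : IsLocalizedModule (Submonoid.powers f) ι :=
    (isLocalizedModule_iff_isBaseChange (Submonoid.powers f) L ι).2 (TensorProduct.isBaseChange R N L)
  -- clear denominators
  have key : ∀ z ∈ 𝔪 • (⊤ : Submodule R (L ⊗[R] Q)), ∃ j : ℕ, ∃ y ∈ 𝔪 • Q,
      f ^ j • (LinearMap.lTensor L Q.subtype z) = ι y := by
    intro z hz
    induction hz using Submodule.smul_induction_on' with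
    | smul a ha n _ =>
      haveI : IsLocalizedModule (Submonoid.powers f) (TensorProduct.mk R L Q 1) :=
        (isLocalizedModule_iff_isBaseChange (Submonoid.powers f) L _).2 (TensorProduct.isBaseChange R Q L)
      obtain ⟨⟨q, ⟨s, j, rfl⟩⟩, hq⟩ := IsLocalizedModule.surj (Submonoid.powers f) (TensorProduct.mk R L Q 1) n
      refine ⟨j, a • (q : N), Submodule.smul_mem_smul ha q.2, ?_⟩
      have e : f ^ j • n = (1 : L) ⊗ₜ q := hq
      rw [← map_smul, smul_comm, e, map_smul, map_smul]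
      rfl
    | add a _ b _ ha hb =>
      obtain ⟨j, y, hy, e⟩ := ha
      obtain ⟨j', y', hy', e'⟩ := hb
      refine ⟨j + j', f ^ j' • y + f ^ j • y', add_mem (Submodule.smul_mem _ _ hy) (Submodule.smul_mem _ _ hy'), ?_⟩
      rw [map_add, map_add, map_smul, map_smul, smul_add, ← e, ← e', smul_smul, smul_smul, ← pow_add, ← pow_add,
        add_comm j' j]
  obtain ⟨j, y, hy, e⟩ := key z hz
  rw [hzx, ← map_smul] at e
  obtain ⟨⟨s, i, rfl⟩, hi⟩ := (IsLocalizedModule.eq_iff_exists (Submonoid.powers f) ι).1 e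
  refine mem_of_pow_smul_mem Q 𝔪 hg hxQ (j := i + j) ?_
  rw [pow_add, mul_smul]
  have hi' : f ^ i • (f ^ j • x) = f ^ i • y := hi
  rw [hi']
  exact Submodule.smul_mem _ _ hy

theorem mem_map_of_mem_smul {C N : Type u} [CommRing C] [Algebra R C] [AddCommGroup N] [Module C N] [Module R N]
    [IsScalarTower R C N] (𝔪 : Ideal R) {x : N} (hx : x ∈ 𝔪 • (⊤ : Submodule R N)) :
    x ∈ 𝔪.map (algebraMap R C) • (⊤ : Submodule C N) := by
  induction hx using Submodule.smul_induction_on' with
  | smul r hr n _ =>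
    rw [← algebraMap_smul C r n]
    exact Submodule.smul_mem_smul (Ideal.mem_map_of_mem _ hr) trivial
  | add _ _ _ _ h₁ h₂ => exact add_mem h₁ h₂

theorem mem_smul_of_mem_map {C N : Type u} [CommRing C] [Algebra R C] [AddCommGroup N] [Module C N] [Module R N]
    [IsScalarTower R C N] (𝔪 : Ideal R) {x : N} (hx : x ∈ 𝔪.map (algebraMap R C) • (⊤ : Submodule C N)) :
    x ∈ 𝔪 • (⊤ : Submodule R N) := by
  induction hx using Submodule.smul_induction_on' with
  | smul c hc n _ =>
    induction hc using Submodule.span_induction generalizing n with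
    | mem c hc =>
      obtain ⟨r, hr, rfl⟩ := hc
      rw [algebraMap_smul]
      exact Submodule.smul_mem_smul hr trivial
    | zero => rw [zero_smul]; exact zero_mem _
    | add a b _ _ ha hb => rw [add_smul]; exact add_mem (ha n trivial) (hb n trivial)
    | smul a b _ hb => rw [smul_eq_mul, mul_comm, mul_smul]; exact hb (a • n) trivial
  | add _ _ _ _ h₁ h₂ => exact add_mem h₁ h₂

variable [IsDomain R] [IsNoetherianRing R] (C : Type u) [CommRing C] [Algebra R C] [Algebra.FiniteType R C]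
  (M N : Type u) [AddCommGroup M] [Module C M] [Module R M] [IsScalarTower R C M]
  [Module.FinitePresentation C M] [AddCommGroup N] [Module C N] [Module R N] [IsScalarTower R C N]
  [Module.Finite C N]

/-- **Homomorphisms modulo the ideal of a general point.** -/
theorem exists_hom_mod : ∃ f : R, f ≠ 0 ∧ ∀ 𝔪 : Ideal R, (∃ g, 1 - g * f ∈ 𝔪) →
    (∀ h : M →ₗ[C] N, (∀ m, h m ∈ 𝔪 • (⊤ : Submodule R N)) → h ∈ 𝔪 • (⊤ : Submodule R (M →ₗ[C] N))) ∧
    ∀ φ : M →ₗ[C] N ⧸ (𝔪.map (algebraMap R C) • (⊤ : Submodule C N)),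
      ∃ h : M →ₗ[C] N, ∀ m, Submodule.Quotient.mk (h m) = φ m := by
  classical
  obtain ⟨b, v, hv⟩ := Module.Finite.exists_fin (R := C) (M := M)
  let p : (Fin b → C) →ₗ[C] M := Fintype.linearCombination C v
  have hp : Function.Surjective p := by
    rw [← LinearMap.range_eq_top, Fintype.range_linearCombination]; exact hv
  obtain ⟨a, w, hw⟩ := Submodule.fg_iff_exists_fin_generating_family.1 (Module.FinitePresentation.fg_ker p hp)
  let vs : (Fin b → N) →ₗ[C] (Fin a → N) :=
    LinearMap.pi fun j => ∑ i, w j i • LinearMap.proj i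
  have hvs : ∀ x j, vs x j = ∑ i, w j i • x i := fun x j => by simp [vs]
  let K := (LinearMap.ker vs).restrictScalars R
  let P := (LinearMap.range vs).restrictScalars R
  haveI : Module.Finite C ((Fin b → N) ⧸ LinearMap.ker vs) := inferInstance
  obtain ⟨f₁, hf₁, hK⟩ := FlatLib.gfree_of_finite (R := R) C ((Fin b → N) ⧸ LinearMap.ker vs)
  obtain ⟨f₂, hf₂, hP⟩ := FlatLib.gfree_of_finite (R := R) C ((Fin a → N) ⧸ LinearMap.range vs)
  refine ⟨f₁ * f₂, mul_ne_zero hf₁ hf₂, fun 𝔪 ⟨g, hg⟩ => ?_⟩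
  have hK' : Module.Free (Localization.Away f₁) (Localization.Away f₁ ⊗[R] ((Fin b → N) ⧸ K)) :=
    Module.Free.of_equiv (AlgebraTensorModule.congr (LinearEquiv.refl _ _)
      (Submodule.Quotient.restrictScalarsEquiv R (LinearMap.ker vs)).symm)
  have hP' : Module.Free (Localization.Away f₂) (Localization.Away f₂ ⊗[R] ((Fin a → N) ⧸ P)) :=
    Module.Free.of_equiv (AlgebraTensorModule.congr (LinearEquiv.refl _ _)
      (Submodule.Quotient.restrictScalarsEquiv R (LinearMap.range vs)).symm)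
  have hg₁ : 1 - g * f₂ * f₁ ∈ 𝔪 := by rwa [mul_assoc, mul_comm f₂]
  have hg₂ : 1 - g * f₁ * f₂ ∈ 𝔪 := by rwa [mul_assoc]
  -- homomorphisms are solutions of the relations
  have hrel : ∀ x : Fin b → N, vs x = 0 →
      LinearMap.ker p ≤ LinearMap.ker (Fintype.linearCombination C x) := fun x hx => by
    rw [← hw, Submodule.span_le]
    rintro _ ⟨j, rfl⟩
    rw [SetLike.mem_coe, LinearMap.mem_ker, Fintype.linearCombination_apply, ← hvs, hx]
    rfl
  let mkHom : (x : Fin b → N) → vs x = 0 → (M →ₗ[C] N) := fun x hx =>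
    ((LinearMap.ker p).liftQ _ (hrel x hx)) ∘ₗ (p.quotKerEquivOfSurjective hp).symm.toLinearMap
  have hmk : ∀ x hx i, mkHom x hx (v i) = x i := fun x hx i => by
    have e : v i = p (Pi.single i 1) := by simp [p]
    rw [e]
    show (LinearMap.ker p).liftQ _ (hrel x hx) ((p.quotKerEquivOfSurjective hp).symm (p (Pi.single i 1))) = x i
    rw [LinearMap.quotKerEquivOfSurjective_symm_apply]
    simp
  have hpi : ∀ {n : ℕ} (x : Fin n → N), (∀ i, x i ∈ 𝔪 • (⊤ : Submodule R N)) → x ∈ 𝔪 • (⊤ : Submodule R (Fin n → N)) := by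
    intro n x hx
    rw [← Finset.univ_sum_single x]
    refine Submodule.sum_mem _ fun i _ => ?_
    have := Submodule.mem_map_of_mem (f := LinearMap.single R (fun _ : Fin n => N) i) (hx i)
    rw [Submodule.map_smul''] at this
    exact Submodule.smul_mono le_rfl le_top this
  refine ⟨fun h hh => ?_, fun φ => ?_⟩
  · let x : Fin b → N := fun i => h (v i)
    have hxK : x ∈ K := by
      show vs x = 0
      funext j
      rw [hvs, Pi.zero_apply, show ∑ i, w j i • h (v i) = h (p (w j)) by simp [p, Fintype.linearCombination_apply]]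
      rw [show p (w j) = 0 from LinearMap.mem_ker.1 (hw ▸ Submodule.subset_span ⟨j, rfl⟩), map_zero]
    have hx : x ∈ 𝔪 • K := inf_smul_le K hK' 𝔪 hg₁ hxK (hpi x fun i => hh _)
    suffices ∀ y ∈ 𝔪 • K, ∀ h' : M →ₗ[C] N, (∀ i, h' (v i) = y i) → h' ∈ 𝔪 • (⊤ : Submodule R (M →ₗ[C] N)) from
      this x hx h fun i => rfl
    intro y hy
    have hyK : ∀ z ∈ 𝔪 • K, vs z = 0 := fun z hz => Submodule.smul_le_right hz
    induction hy using Submodule.smul_induction_on' with
    | smul r hr z hz =>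
      intro h' hh'
      have : h' = r • mkHom z (show vs z = 0 from hz) := LinearMap.ext_on_range hv fun i => by
        rw [hh', LinearMap.smul_apply, hmk z (show vs z = 0 from hz)]; rfl
      rw [this]
      exact Submodule.smul_mem_smul hr trivial
    | add y₁ hy₁ y₂ hy₂ ih₁ ih₂ =>
      intro h' hh'
      have : h' = mkHom y₁ (hyK _ hy₁) + mkHom y₂ (hyK _ hy₂) := LinearMap.ext_on_range hv fun i => by
        rw [hh', LinearMap.add_apply, hmk y₁ (hyK _ hy₁), hmk y₂ (hyK _ hy₂)]; rfl
      rw [this]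
      exact add_mem (ih₁ _ (hmk y₁ (hyK _ hy₁))) (ih₂ _ (hmk y₂ (hyK _ hy₂)))
  · choose x hx using fun i => Submodule.Quotient.mk_surjective _ (φ (v i))
    let x' : Fin b → N := x
    have hvx : vs x' ∈ P := ⟨x', rfl⟩
    have hmem : vs x' ∈ 𝔪 • (⊤ : Submodule R (Fin a → N)) := hpi _ fun j => by
      have h0 : Submodule.Quotient.mk (vs x' j) = (0 : N ⧸ (𝔪.map (algebraMap R C) • (⊤ : Submodule C N))) := by
        rw [hvs, ← Submodule.mkQ_apply, map_sum]
        have : ∀ i, Submodule.mkQ _ (w j i • x' i) = φ (w j i • v i) := fun i => by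
          rw [map_smul, map_smul]; exact congrArg _ (hx i)
        rw [Finset.sum_congr rfl fun i _ => this i, ← map_sum,
          show ∑ i, w j i • v i = p (w j) by simp [p, Fintype.linearCombination_apply],
          show p (w j) = 0 from LinearMap.mem_ker.1 (hw ▸ Submodule.subset_span ⟨j, rfl⟩), map_zero]
      have := (Submodule.Quotient.mk_eq_zero _).1 h0
      exact mem_smul_of_mem_map 𝔪 this
    have hy : ∀ y ∈ 𝔪 • P, ∃ z ∈ 𝔪 • (⊤ : Submodule R (Fin b → N)), vs z = y := fun y hy => by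
      induction hy using Submodule.smul_induction_on' with
      | smul r hr z hz =>
        obtain ⟨z', rfl⟩ := hz
        exact ⟨r • z', Submodule.smul_mem_smul hr trivial, LinearMap.map_smul_of_tower vs r z'⟩
      | add y₁ _ y₂ _ ih₁ ih₂ =>
        obtain ⟨z₁, h₁, rfl⟩ := ih₁
        obtain ⟨z₂, h₂, rfl⟩ := ih₂
        exact ⟨z₁ + z₂, add_mem h₁ h₂, map_add _ _ _⟩
    obtain ⟨z, hz, hzx⟩ := hy _ (inf_smul_le P hP' 𝔪 hg₂ hvx hmem)
    have h0 : vs (x' - z) = 0 := by rw [map_sub, hzx, sub_self]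
    refine ⟨mkHom _ h0, fun m => ?_⟩
    suffices (Submodule.mkQ _).comp (mkHom _ h0) = φ from LinearMap.congr_fun this m
    refine LinearMap.ext_on_range hv fun i => ?_
    rw [LinearMap.comp_apply, hmk _ h0, ← hx i, Submodule.mkQ_apply, Submodule.Quotient.eq]
    have hzi : z i ∈ 𝔪 • (⊤ : Submodule R N) := by
      have := Submodule.mem_map_of_mem (f := (LinearMap.proj i : (Fin b → N) →ₗ[R] N)) hz
      rw [Submodule.map_smul''] at this
      exact Submodule.smul_mono le_rfl le_top this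
    have e : x' i - z i - x i = -(z i) := by simp [x']
    rw [Pi.sub_apply, e]
    refine neg_mem ?_
    exact mem_map_of_mem_smul 𝔪 hzi

end BddFamLib
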