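import Groth.Agent.NumTrivLib.BoundedProj
import Groth.Agent.QuotSchLib.Glue

/-!
# Bounded families: unions and reduction to generic points
-/

set_option autoImplicit false
set_option linter.style.haveILetI false
set_option maxHeartbeats 1000000
universe u

open CategoryTheory CategoryTheory.Limits AlgebraicGeometry TopologicalSpace Opposite
open KFlatLib (pb)
open NumTrivLib (prodMap)

noncomputable section

namespace BddFamLib

/-- Flatness of a family after restricting the base to an open. -/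
theorem isFlatOver_pb_open {P P' T T' : Scheme.{u}} {f : P ⟶ T} {f' : P' ⟶ T'} {jj : P' ⟶ P} {e : T' ⟶ T}
    (hsq : IsPullback jj f' f e) [IsOpenImmersion e] (F : P.Modules)
    (h : ∀ x : P', FlatMod.IsFlatOverAt f F (jj x)) : FlatMod.IsFlatOver f' (pb jj F) := fun x => by
  haveI : IsOpenImmersion jj := MorphismProperty.of_isPullback hsq.flip inferInstance
  have h0 := h x
  rw [← RichLib.ModFlat.isFlatOverAt_comp_source jj f F x, hsq.w, RichLib.ModFlat.isFlatOverAt_comp_target f' e] at h0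
  exact h0

variable (k : Type u) [Field k] (X : Scheme.{u}) [X.Over (Spec (CommRingCat.of k))]
  [IsProper (X ↘ Spec (CommRingCat.of k))]

theorem isPullback_prodMap {S T : Scheme.{u}} (e : S ⟶ T) (q : T ⟶ Spec (CommRingCat.of k)) :
    IsPullback (prodMap k X e q) (pullback.snd (X ↘ Spec (CommRingCat.of k)) (e ≫ q))
      (pullback.snd (X ↘ Spec (CommRingCat.of k)) q) e := by
  refine IsPullback.of_right ?_ (pullback.lift_snd _ _ _) (IsPullback.of_hasPullback _ _)
  rw [show prodMap k X e q ≫ pullback.fst _ q = pullback.fst (X ↘ Spec (CommRingCat.of k)) (e ≫ q) from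
    (pullback.lift_fst _ _ _).trans (Category.comp_id _)]
  exact IsPullback.of_hasPullback _ _

instance isOpenImmersion_prodMap {S T : Scheme.{u}} (e : S ⟶ T) [IsOpenImmersion e]
    (q : T ⟶ Spec (CommRingCat.of k)) : IsOpenImmersion (prodMap k X e q) :=
  MorphismProperty.of_isPullback (isPullback_prodMap k X e q).flip inferInstance

theorem isLocallyNoetherian_prodK {T : Scheme.{u}} (q : T ⟶ Spec (CommRingCat.of k)) [LocallyOfFiniteType q] :
    IsLocallyNoetherian (Pic13.prodK k X q) :=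
  haveI : IsLocallyNoetherian T := LocallyOfFiniteType.isLocallyNoetherian q
  LocallyOfFiniteType.isLocallyNoetherian (pullback.snd (X ↘ Spec (CommRingCat.of k)) q)

/-- Finitely many bounded families form a bounded family. -/
theorem isBounded_fintype {ι : Type u} [Finite ι] (P : ι → X.Modules → Prop)
    (h : ∀ i, Pic13.IsBounded k X (P i)) : Pic13.IsBounded k X (fun L => ∃ i, P i L) := by
  choose T q hl hq F hF hm using h
  let Q : (∐ T) ⟶ Spec (CommRingCat.of k) := Sigma.desc q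
  have hj : ∀ i, Sigma.ι T i ≫ Q = q i := fun i => Sigma.ι_desc _ _
  haveI : CompactSpace (∐ T : Scheme.{u}) := by
    haveI : ∀ i, CompactSpace ((sigmaOpenCover T).X i) := fun i =>
      haveI := hq i
      show CompactSpace (T i) from QuasiCompact.compactSpace_of_compactSpace (q i)
    haveI : Finite (sigmaOpenCover T).I₀ := inferInstanceAs (Finite ι)
    exact Scheme.OpenCover.compactSpace (sigmaOpenCover T)
  haveI : QuasiCompact Q := (quasiCompact_iff_compactSpace Q).2 inferInstance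
  haveI : LocallyOfFiniteType Q := IsZariskiLocalAtSource.sigmaDesc (P := @LocallyOfFiniteType) hl
  let Z := Pic13.prodK k X Q
  haveI := isLocallyNoetherian_prodK k X Q
  let j : ∀ i, Pic13.prodK k X (Sigma.ι T i ≫ Q) ⟶ Z := fun i => prodMap k X (Sigma.ι T i) Q
  let ψ : ∀ i, Pic13.prodK k X (Sigma.ι T i ≫ Q) ⟶ Pic13.prodK k X (q i) := fun i =>
    pullback.map _ _ _ _ (𝟙 X) (𝟙 (T i)) (𝟙 _) (by simp) (by rw [Category.comp_id, Category.id_comp, hj i])
  let F' : ∀ i, (Pic13.prodK k X (Sigma.ι T i ≫ Q)).Modules := fun i => pb (ψ i) (F i)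
  have hsq : ∀ i, IsPullback (j i) (pullback.snd _ _) (pullback.snd _ Q) (Sigma.ι T i) := fun i =>
    isPullback_prodMap k X (Sigma.ι T i) Q
  have hU : ∀ z, ∃ i, z ∈ Set.range (j i) := fun z => by
    obtain ⟨i, w, hw⟩ := (sigmaOpenCover T).exists_eq ((pullback.snd _ Q) z)
    refine ⟨i, ?_⟩
    obtain ⟨y, hy, -⟩ := Scheme.Pullback.exists_preimage_pullback (f := pullback.snd _ Q) (g := Sigma.ι T i) z w hw.symm
    refine ⟨(hsq i).isoPullback.inv y, ?_⟩
    rw [← hy, ← (hsq i).isoPullback_inv_fst]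
    rfl
  have hd : ∀ i l, i ≠ l → Disjoint (Set.range (j i)) (Set.range (j l)) := fun i l hil => by
    rw [Set.disjoint_iff]
    rintro z ⟨⟨a, rfl⟩, b, hb⟩
    have h1 := congrArg (fun m => m.base a) (hsq i).w
    have h2 := congrArg (fun m => m.base b) (hsq l).w
    exact (disjoint_iff_inf_le.1 (disjoint_opensRange_sigmaι T i l hil))
      (⟨⟨_, h1.symm⟩, ⟨_, ((h2.symm.trans (congrArg (pullback.snd (X ↘ Spec (CommRingCat.of k)) Q) hb)) :)⟩⟩ : _ ∈ (Sigma.ι T i).opensRange ⊓ (Sigma.ι T l).opensRange)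
  let fam := fun i => (Scheme.Modules.pushforward (j i)).obj (F' i)
  have he : ∀ i, Nonempty (pb (j i) (∏ᶜ fam) ≅ F' i) := fun i => by
    haveI : IsIso ((Scheme.Modules.restrictFunctor (j i)).map (Pi.π fam i)) := by
      haveI : ∀ W, IsIso (((Scheme.Modules.restrictFunctor (j i)).map (Pi.π fam i)).app W) := fun W =>
        QuotSchLib.isIso_app_piProj j hd F' i (j i ''ᵁ W) (Set.image_subset_range _ _)
      exact Scheme.Modules.Hom.isIso_iff_isIso_app.2 inferInstance
    haveI : IsIso ((Scheme.Modules.pullback (j i)).map (Pi.π fam i)) :=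
      (NatIso.isIso_map_iff (Scheme.Modules.restrictFunctorIsoPullback (j i)) _).1 inferInstance
    haveI := CohGenLib.isIso_counit_open (j i)
    exact ⟨asIso ((Scheme.Modules.pullback (j i)).map (Pi.π fam i) ≫
      (Scheme.Modules.pullbackPushforwardAdjunction (j i)).counit.app (F' i))⟩
  refine ⟨∐ T, Q, inferInstance, inferInstance, ∏ᶜ fam, ?_, ?_⟩
  · refine QuotSchLib.isCoh_of_openImmersions j hU _ fun i => QCohLib.isCoh_of_iso (he i).some.symm ?_
    haveI := hl i
    haveI : LocallyOfFiniteType (Sigma.ι T i ≫ Q) := (hj i).symm ▸ hl i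
    haveI := isLocallyNoetherian_prodK k X (Sigma.ι T i ≫ Q)
    exact ConsLib.isCoh_pullback _ (hF i)
  · rintro L ⟨i, hL⟩
    obtain ⟨t, ht, ⟨e⟩⟩ := hm i L hL
    have ht' : (t ≫ Sigma.ι T i) ≫ Q = 𝟙 _ := by rw [Category.assoc, hj, ht]
    have hs : t ≫ Sigma.ι T i ≫ Q = 𝟙 _ := by rw [hj, ht]
    obtain ⟨a⟩ := NumTrivLib.nonempty_fibreMod_prodMap k X (Sigma.ι T i) Q t hs _ ht' rfl (∏ᶜ fam)
    refine ⟨t ≫ Sigma.ι T i, ht', ⟨a.symm ≪≫ (Scheme.Modules.pullback _).mapIso (he i).some ≪≫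
      (Scheme.Modules.pullbackComp _ (ψ i)).app (F i) ≪≫ (Scheme.Modules.pullbackCongr ?_).app (F i) ≪≫ e⟩⟩
    apply pullback.hom_ext
    · rw [Category.assoc]
      simp only [ψ, Pic13.sliceAt, pullback.map, pullback.lift_fst, pullback.lift_fst_assoc, Category.comp_id]
    · rw [Category.assoc]
      simp only [ψ, Pic13.sliceAt, pullback.map, pullback.lift_snd, pullback.lift_snd_assoc, Category.comp_id]

theorem isBounded_empty : Pic13.IsBounded k X (fun _ => False) :=
  (isBounded_fintype k X (ι := PEmpty.{u+1}) (fun e => e.elim) (fun e => e.elim)) |> fun h =>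
    NumTrivLib.isBounded_mono h fun _ h => h.elim

theorem isBounded_or {P Q : X.Modules → Prop} (hP : Pic13.IsBounded k X P) (hQ : Pic13.IsBounded k X Q) :
    Pic13.IsBounded k X (fun L => P L ∨ Q L) := by
  refine NumTrivLib.isBounded_mono
    (isBounded_fintype k X (ι := ULift.{u} Bool) (fun b => if b.down then P else Q) fun b => ?_) fun L h => ?_
  · cases b.down <;> simpa
  · rcases h with h | h
    · exact ⟨⟨true⟩, by simpa⟩
    · exact ⟨⟨false⟩, by simpa⟩

/-- **Reduction to generic points.** -/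
theorem isBounded_of_generic {T : Scheme.{u}} (q : T ⟶ Spec (CommRingCat.of k)) [LocallyOfFiniteType q]
    [QuasiCompact q] (R : (Spec (CommRingCat.of k) ⟶ T) → X.Modules → Prop)
    (h : ∀ (S : Scheme.{u}) (e : S ⟶ T), IsIntegral S → IsAffine S → LocallyOfFiniteType e → QuasiCompact e →
      ∃ U : S.Opens, (U : Set S).Nonempty ∧ Pic13.IsBounded k X (fun L => ∃ s : Spec (CommRingCat.of k) ⟶ S,
        s ≫ e ≫ q = 𝟙 _ ∧ Set.range s ⊆ U ∧ R (s ≫ e) L)) :
    Pic13.IsBounded k X (fun L => ∃ t, t ≫ q = 𝟙 _ ∧ R t L) := by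
  classical
  haveI : IsLocallyNoetherian T := LocallyOfFiniteType.isLocallyNoetherian q
  haveI : CompactSpace T := QuasiCompact.compactSpace_of_compactSpace q
  haveI : AlgebraicGeometry.IsNoetherian T := {}
  let Fam : Set T → X.Modules → Prop := fun Y L =>
    ∃ t : Spec (CommRingCat.of k) ⟶ T, t ≫ q = 𝟙 _ ∧ Set.range t ⊆ Y ∧ R t L
  suffices key : ∀ Y : Closeds T, Pic13.IsBounded k X (Fam Y) from
    NumTrivLib.isBounded_mono (key ⊤) fun L ⟨t, h1, h2⟩ => ⟨t, h1, fun _ _ => trivial, h2⟩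
  intro Y
  refine WellFoundedLT.induction (motive := fun Y : Closeds T => Pic13.IsBounded k X (Fam Y)) Y fun Y ih => ?_
  by_cases hne : (Y : Set T).Nonempty
  swap
  · refine NumTrivLib.isBounded_mono (isBounded_empty k X) fun L h => by
      obtain ⟨t, -, h2, -⟩ := h
      exact hne ⟨t default, h2 ⟨_, rfl⟩⟩
  by_cases hirr : IsPreirreducible (Y : Set T)
  swap
  · rw [isPreirreducible_iff_isClosed_union_isClosed] at hirr
    push Not at hirr
    obtain ⟨z₁, z₂, h₁, h₂, hsub, hn₁, hn₂⟩ := hirr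
    have hlt : ∀ z (hz : IsClosed z), ¬ (Y : Set T) ⊆ z → (⟨Y ∩ z, Y.isClosed.inter hz⟩ : Closeds T) < Y :=
      fun z hz hn => lt_of_le_of_ne Set.inter_subset_left fun h => hn fun y hy =>
        ((congrArg SetLike.coe h).ge hy).2
    refine NumTrivLib.isBounded_mono (isBounded_or k X (ih _ (hlt z₁ h₁ hn₁)) (ih _ (hlt z₂ h₂ hn₂))) ?_
    rintro L ⟨t, h1, h2, h3⟩
    have hp : ∀ p, t p = t default := fun p => congrArg _ (Subsingleton.elim _ _)
    rcases hsub (h2 ⟨default, rfl⟩) with h | h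
    · exact Or.inl ⟨t, h1, by rintro _ ⟨p, rfl⟩; rw [hp]; exact ⟨h2 ⟨_, rfl⟩, h⟩, h3⟩
    · exact Or.inr ⟨t, h1, by rintro _ ⟨p, rfl⟩; rw [hp]; exact ⟨h2 ⟨_, rfl⟩, h⟩, h3⟩
  obtain ⟨Z, j, hj, hZ, hr⟩ := DevissLib.exists_integral_closed Y.isClosed ⟨hne, hirr⟩
  haveI := hj
  haveI := hZ
  haveI : IsLocallyNoetherian Z := LocallyOfFiniteType.isLocallyNoetherian j
  obtain ⟨z₀⟩ : Nonempty Z := inferInstance
  obtain ⟨U₀, hU₀, hz₀⟩ := QCohLib.exists_affine_nhd z₀
  haveI : Nonempty U₀.toScheme := ⟨⟨z₀, hz₀⟩⟩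
  obtain ⟨U, ⟨u₀, hu₀⟩, hU⟩ := h U₀.toScheme (U₀.ι ≫ j) (isIntegral_of_isOpenImmersion U₀.ι) hU₀
    inferInstance inferInstance
  let W : Z.Opens := U₀.ι ''ᵁ U
  let C : Closeds T := ⟨j '' (W : Set Z)ᶜ, j.isClosedEmbedding.isClosedMap _ W.isOpen.isClosed_compl⟩
  have hC : C < Y := lt_of_le_of_ne ((Set.image_subset_range _ _).trans hr.le) fun h => by
    have : j (U₀.ι u₀) ∈ (C : Set T) := (congrArg SetLike.coe h).ge (hr.le ⟨_, rfl⟩)
    obtain ⟨z, hz, hzz⟩ := this
    exact hz (j.isClosedEmbedding.injective hzz ▸ ⟨u₀, hu₀, rfl⟩)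
  refine NumTrivLib.isBounded_mono (isBounded_or k X hU (ih C hC)) ?_
  rintro L ⟨t, h1, h2, h3⟩
  by_cases hcase : t default ∈ (C : Set T)
  · exact Or.inr ⟨t, h1, by rintro _ ⟨p, rfl⟩; rw [Subsingleton.elim p default]; exact hcase, h3⟩
  left
  have hk := DvrProperLib.ker_le_ker_of_range_subset j t (h2.trans hr.ge)
  let z := IsClosedImmersion.lift j t hk
  have hz : z ≫ j = t := IsClosedImmersion.lift_fac _ _ _
  have hzW : ∀ p, z p ∈ W := fun p => by
    by_contra hn
    refine hcase ⟨z p, hn, ?_⟩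
    rw [Subsingleton.elim p default, ← hz]
    rfl
  have hzU : Set.range z ⊆ Set.range U₀.ι := by
    rintro _ ⟨p, rfl⟩
    obtain ⟨u, -, hu⟩ := hzW p
    exact ⟨u, hu⟩
  let s := IsOpenImmersion.lift U₀.ι z hzU
  have hs : s ≫ U₀.ι = z := IsOpenImmersion.lift_fac _ _ _
  have hse : s ≫ U₀.ι ≫ j = t := by rw [← Category.assoc, hs, hz]
  refine ⟨s, by rw [← Category.assoc, hse, h1], ?_, by rw [hse]; exact h3⟩
  rintro _ ⟨p, rfl⟩
  obtain ⟨u, hu, hup⟩ := hzW p
  have : U₀.ι (s p) = U₀.ι u := by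
    exact (congrArg (fun m => m.base p) hs).trans hup.symm
  rwa [U₀.ι.isOpenEmbedding.injective this]

end BddFamLib

end
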