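import Groth.Agent.CohCmpLib.HomLift
import Groth.Agent.HomCohLib.Coh
import Groth.Agent.KFlatLib.AffinePull

/-!
# Homomorphisms on a closed slice, on an affine chart
-/

set_option autoImplicit false
set_option linter.style.haveILetI false
set_option maxHeartbeats 1000000
universe u

open CategoryTheory CategoryTheory.Limits AlgebraicGeometry TopologicalSpace Opposite TensorProduct
open KFlatLib (pb puSec puSecLE)
open CohCmpLib (homMod homPull happ hVal ger_happ homMod_ext hVal_res)
open ProjFormLib (ger ger_res section_ext)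

noncomputable section

namespace BddFamLib

/-- Base change along a surjection is reduction modulo its kernel. -/
theorem baseChange_surjection {A B M M' : Type u} [CommRing A] [CommRing B] [Algebra A B] [AddCommGroup M]
    [Module A M] [AddCommGroup M'] [Module A M'] [Module B M'] [IsScalarTower A B M'] {ψ : M →ₗ[A] M'}
    (h : IsBaseChange B ψ) (hs : Function.Surjective (algebraMap A B)) :
    Function.Surjective ψ ∧ LinearMap.ker ψ = RingHom.ker (algebraMap A B) • (⊤ : Submodule A M) := by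
  refine ⟨fun y => ?_, le_antisymm (fun x hx => ?_) ?_⟩
  · obtain ⟨z, rfl⟩ := h.equiv.surjective y
    induction z using TensorProduct.induction_on with
    | zero => exact ⟨0, by rw [map_zero, map_zero]⟩
    | add a b ha hb =>
      obtain ⟨a', ha'⟩ := ha
      obtain ⟨b', hb'⟩ := hb
      exact ⟨a' + b', by rw [map_add, map_add, ha', hb']⟩
    | tmul b m =>
      obtain ⟨a, rfl⟩ := hs b
      exact ⟨a • m, by rw [map_smul, h.equiv_tmul, algebraMap_smul]⟩
  · let I : Submodule A A := RingHom.ker (algebraMap A B)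
    have hex : Function.Exact I.subtype (Algebra.linearMap A B) := fun y => by
      constructor
      · exact fun hy => ⟨⟨y, hy⟩, rfl⟩
      · rintro ⟨z, rfl⟩
        exact z.2
    have hex' := rTensor_exact M hex (show Function.Surjective (Algebra.linearMap A B) from hs)
    have h0 : (1 : B) ⊗ₜ[A] x = 0 := h.equiv.injective (by
      rw [h.equiv_tmul, one_smul, map_zero]; exact hx)
    obtain ⟨z, hz⟩ := (hex' ((1 : A) ⊗ₜ[A] x)).1 (by
      rw [LinearMap.rTensor_tmul]
      simpa using h0)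
    have hmem : ∀ w : I ⊗[A] M, TensorProduct.lid A M (I.subtype.rTensor M w) ∈
        RingHom.ker (algebraMap A B) • (⊤ : Submodule A M) := fun w => by
      induction w using TensorProduct.induction_on with
      | zero => simp
      | add a b ha hb => rw [map_add, map_add]; exact add_mem ha hb
      | tmul a m =>
        rw [LinearMap.rTensor_tmul, TensorProduct.lid_tmul]
        exact Submodule.smul_mem_smul a.2 trivial
    have := hmem z
    rwa [hz, TensorProduct.lid_tmul, one_smul] at this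
  · rw [Submodule.smul_le]
    intro a ha m _
    rw [LinearMap.mem_ker, map_smul, ← algebraMap_smul B a, RingHom.mem_ker.1 ha, zero_smul]

variable {Z X' : Scheme.{u}} (s : X' ⟶ Z) {X₀ : Z.Opens} {O : X'.Opens} (e : O ≤ s ⁻¹ᵁ X₀)

/-- Pullback of sections on a chart, surjective with known kernel. -/
theorem puSecLE_chart (hX₀ : IsAffineOpen X₀) (hO : IsAffineOpen O)
    (hs : Function.Surjective (s.appLE X₀ O e)) (M : Z.Modules) [Coh.IsQCoh M] :
    Function.Surjective (puSecLE s M e) ∧ ∀ m : Γ(M, X₀), puSecLE s M e m = 0 ↔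
      m ∈ RingHom.ker (s.appLE X₀ O e).hom • (⊤ : Submodule Γ(Z, X₀) Γ(M, X₀)) := by
  letI : Algebra Γ(Z, X₀) Γ(X', O) := (s.appLE X₀ O e).hom.toAlgebra
  letI : Module Γ(Z, X₀) Γ(pb s M, O) := Module.compHom _ (s.appLE X₀ O e).hom
  haveI : IsScalarTower Γ(Z, X₀) Γ(X', O) Γ(pb s M, O) := IsScalarTower.of_algebraMap_smul fun _ _ => rfl
  let ψ : Γ(M, X₀) →ₗ[Γ(Z, X₀)] Γ(pb s M, O) :=
    { toFun := puSecLE s M e
      map_add' := map_add _
      map_smul' := fun r m => KFlatLib.puSecLE_smul s M e r m }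
  obtain ⟨h1, h2⟩ := baseChange_surjection (KFlatLib.isBaseChange_puSec s M hX₀ hO e (fun _ => rfl) ψ fun _ => rfl) hs
  exact ⟨h1, fun m => SetLike.ext_iff.1 h2 m⟩

/-- The fibre of a local homomorphism, on sections. -/
theorem happ_homPull (M N : Z.Modules) (h : Γ(homMod M N, X₀)) (m : Γ(M, X₀)) :
    happ ((homPull s M N).app O (puSecLE s (homMod M N) e h)) (puSecLE s M e m) = puSecLE s N e (happ h m) :=
  section_ext _ _ fun z hz => by
    letI := (s.stalkMap z).hom.toAlgebra
    obtain ⟨L, L', hL, hL', hLL⟩ := CohCmpLib.exists_homPull_stalk (M := M) (P := N) s z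
    have e1 : ∀ (A : Z.Modules) (a : Γ(A, X₀)),
        ger (pb s A) z hz (puSecLE s A e a) = ger (pb s A) z (U := s ⁻¹ᵁ X₀) (e hz) (puSec s a) := fun A a => by
      rw [KFlatLib.puSecLE_apply]
      exact ger_res (pb s A) e z hz _
    rw [ger_happ, hLL X₀ O e hz h, LinearMap.comp_apply, LinearMap.comp_apply, LinearEquiv.coe_coe,
      LinearEquiv.coe_coe, e1 M m, ← hL X₀ (e hz) m, LinearEquiv.symm_apply_apply, LinearMap.baseChange_tmul,
      e1 N, ← hL' X₀ (e hz), ger_happ]

/-- **Homomorphisms on the slice come from the family, on a chart.** -/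
theorem bijective_homPull_app (hX₀ : IsAffineOpen X₀) (hO : IsAffineOpen O)
    (hs : Function.Surjective (s.appLE X₀ O e)) (M N : Z.Modules) [Coh.IsQCoh M] [Coh.IsQCoh N]
    [Coh.IsQCoh (homMod M N)]
    (hinj : ∀ h : Γ(M, X₀) →ₗ[Γ(Z, X₀)] Γ(N, X₀),
      (∀ m, h m ∈ RingHom.ker (s.appLE X₀ O e).hom • (⊤ : Submodule Γ(Z, X₀) Γ(N, X₀))) →
      h ∈ RingHom.ker (s.appLE X₀ O e).hom • (⊤ : Submodule Γ(Z, X₀) (Γ(M, X₀) →ₗ[Γ(Z, X₀)] Γ(N, X₀))))
    (hsurj : ∀ φ : Γ(M, X₀) →ₗ[Γ(Z, X₀)]
        Γ(N, X₀) ⧸ (RingHom.ker (s.appLE X₀ O e).hom • (⊤ : Submodule Γ(Z, X₀) Γ(N, X₀))),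
      ∃ h : Γ(M, X₀) →ₗ[Γ(Z, X₀)] Γ(N, X₀), ∀ m, Submodule.Quotient.mk (h m) = φ m) :
    Function.Bijective ((homPull s M N).app O) := by
  haveI : Coh.IsQCoh (pb s M) := KFlatLib.isQCoh_pullback s M
  obtain ⟨hMs, -⟩ := puSecLE_chart s e hX₀ hO hs M
  obtain ⟨hNs, hN0⟩ := puSecLE_chart s e hX₀ hO hs N
  obtain ⟨hHs, hH0⟩ := puSecLE_chart s e hX₀ hO hs (homMod M N)
  have hlin := HomCohLib.lin_bijective (M := M) (N := N) hX₀
  have hlin' := HomCohLib.lin_bijective (M := pb s M) (N := pb s N) hO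
  refine ⟨fun a b hab => ?_, fun v => ?_⟩
  · suffices ∀ z, (homPull s M N).app O z = 0 → z = 0 from
      sub_eq_zero.1 (this _ (by rw [map_sub, hab, sub_self]))
    intro z hz
    obtain ⟨h, rfl⟩ := hHs z
    refine (hH0 h).2 ?_
    have h1 := hinj (HomCohLib.lin X₀ h) fun m => (hN0 _).1 (by
      rw [HomCohLib.lin_apply, ← happ_homPull s e M N h m, hz, ← HomCohLib.lin_apply, map_zero,
        LinearMap.zero_apply])
    let E := LinearEquiv.ofBijective _ hlin
    have h2 := Submodule.mem_map_of_mem (f := E.symm.toLinearMap) h1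
    rw [Submodule.map_smul'', Submodule.map_top, LinearEquiv.range] at h2
    simpa [E] using h2
  · let K := RingHom.ker (s.appLE X₀ O e).hom • (⊤ : Submodule Γ(Z, X₀) Γ(N, X₀))
    let cls : Γ(pb s N, O) → Γ(N, X₀) ⧸ K := fun y => Submodule.Quotient.mk (hNs y).choose
    have hcls : ∀ y n, puSecLE s N e n = y → cls y = Submodule.Quotient.mk n := fun y n hn => by
      refine (Submodule.Quotient.eq K).2 ((hN0 _).1 ?_)
      rw [map_sub, (hNs y).choose_spec, hn, sub_self]
    let φ : Γ(M, X₀) →ₗ[Γ(Z, X₀)] Γ(N, X₀) ⧸ K :=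
      { toFun := fun m => cls (happ v (puSecLE s M e m))
        map_add' := fun m m' => by
          obtain ⟨a, ha⟩ := hNs (happ v (puSecLE s M e m))
          obtain ⟨b, hb⟩ := hNs (happ v (puSecLE s M e m'))
          rw [hcls _ a ha, hcls _ b hb, hcls _ (a + b) (by
            rw [map_add, ha, hb, map_add, HomCohLib.happ_add_right])]
          rfl
        map_smul' := fun c m => by
          obtain ⟨a, ha⟩ := hNs (happ v (puSecLE s M e m))
          rw [hcls _ a ha, hcls _ (c • a) (by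
            rw [KFlatLib.puSecLE_smul, ha, KFlatLib.puSecLE_smul, HomCohLib.happ_smul_right])]
          rfl }
    obtain ⟨f, hf⟩ := hsurj φ
    obtain ⟨h, hh⟩ := hlin.2 f
    refine ⟨puSecLE s (homMod M N) e h, hlin'.1 (LinearMap.ext fun y => ?_)⟩
    obtain ⟨m, rfl⟩ := hMs y
    rw [HomCohLib.lin_apply, HomCohLib.lin_apply, happ_homPull, ← HomCohLib.lin_apply h, hh]
    obtain ⟨a, ha⟩ := hNs (happ v (puSecLE s M e m))
    have h3 : Submodule.Quotient.mk (f m) = (Submodule.Quotient.mk a : Γ(N, X₀) ⧸ K) :=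
      (hf m).trans (hcls _ a ha)
    have h4 := (hN0 _).2 ((Submodule.Quotient.eq K).1 h3)
    rw [map_sub, sub_eq_zero] at h4
    rw [h4, ha]

end BddFamLib

end
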