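import Groth.Agent.BddFamLib.Roots

/-!
# Finitely many classes
-/

set_option autoImplicit false
set_option linter.style.haveILetI false
set_option maxHeartbeats 1000000
universe u

open CategoryTheory CategoryTheory.Limits AlgebraicGeometry TopologicalSpace Opposite
open KFlatLib (pb)
open NumTrivLib (NT)

noncomputable section

namespace BddFamLib

section
variable (k : Type u) [Field k] (X : Scheme.{u}) [X.Over (Spec (CommRingCat.of k))]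

/-- **Reduction to generic points.** -/
theorem good_of_generic (G : (X.Modules → Prop) → Prop) (h0 : G fun _ => False)
    (hor : ∀ P Q, G P → G Q → G fun L => P L ∨ Q L) (hmono : ∀ P Q, G Q → (∀ L, P L → Q L) → G P) {T : Scheme.{u}} (q : T ⟶ Spec (CommRingCat.of k)) [LocallyOfFiniteType q]
    [QuasiCompact q] (R : (Spec (CommRingCat.of k) ⟶ T) → X.Modules → Prop)
    (h : ∀ (S : Scheme.{u}) (e : S ⟶ T), IsIntegral S → IsAffine S → LocallyOfFiniteType e → QuasiCompact e →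
      ∃ U : S.Opens, (U : Set S).Nonempty ∧ G (fun L => ∃ s : Spec (CommRingCat.of k) ⟶ S,
        s ≫ e ≫ q = 𝟙 _ ∧ Set.range s ⊆ U ∧ R (s ≫ e) L)) :
    G (fun L => ∃ t, t ≫ q = 𝟙 _ ∧ R t L) := by
  classical
  haveI : IsLocallyNoetherian T := LocallyOfFiniteType.isLocallyNoetherian q
  haveI : CompactSpace T := QuasiCompact.compactSpace_of_compactSpace q
  haveI : AlgebraicGeometry.IsNoetherian T := {}
  let Fam : Set T → X.Modules → Prop := fun Y L =>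
    ∃ t : Spec (CommRingCat.of k) ⟶ T, t ≫ q = 𝟙 _ ∧ Set.range t ⊆ Y ∧ R t L
  suffices key : ∀ Y : Closeds T, G (Fam Y) from
    hmono _ _ (key ⊤) fun L ⟨t, h1, h2⟩ => ⟨t, h1, fun _ _ => trivial, h2⟩
  intro Y
  refine WellFoundedLT.induction (motive := fun Y : Closeds T => G (Fam Y)) Y fun Y ih => ?_
  by_cases hne : (Y : Set T).Nonempty
  swap
  · refine hmono _ _ h0 fun L h => by
      obtain ⟨t, -, h2, -⟩ := h
      exact hne ⟨t default, h2 ⟨_, rfl⟩⟩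
  by_cases hirr : IsPreirreducible (Y : Set T)
  swap
  · rw [isPreirreducible_iff_isClosed_union_isClosed] at hirr
    push Not at hirr
    obtain ⟨z₁, z₂, h₁, h₂, hsub, hn₁, hn₂⟩ := hirr
    have hlt : ∀ z (hz : IsClosed z), ¬ (Y : Set T) ⊆ z → (⟨Y ∩ z, Y.isClosed.inter hz⟩ : Closeds T) < Y :=
      fun z hz hn => lt_of_le_of_ne Set.inter_subset_left fun h => hn fun y hy =>
        ((congrArg SetLike.coe h).ge hy).2
    refine hmono _ _ (hor _ _ (ih _ (hlt z₁ h₁ hn₁)) (ih _ (hlt z₂ h₂ hn₂))) ?_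
    rintro L ⟨t, h1, h2, h3⟩
    have hp : ∀ p, t p = t default := fun p => congrArg _ (Subsingleton.elim _ _)
    rcases hsub (h2 ⟨default, rfl⟩) with h | h
    · exact Or.inl ⟨t, h1, by rintro _ ⟨p, rfl⟩; rw [hp]; exact ⟨h2 ⟨_, rfl⟩, h⟩, h3⟩
    · exact Or.inr ⟨t, h1, by rintro _ ⟨p, rfl⟩; rw [hp]; exact ⟨h2 ⟨_, rfl⟩, h⟩, h3⟩
  obtain ⟨Z, j, hj, hZ, hr⟩ := DevissLib.exists_integral_closed Y.isClosed ⟨hne, hirr⟩
  haveI := hj
  haveI := hZ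
  haveI : IsLocallyNoetherian Z := LocallyOfFiniteType.isLocallyNoetherian j
  obtain ⟨z₀⟩ : Nonempty Z := inferInstance
  obtain ⟨U₀, hU₀, hz₀⟩ := QCohLib.exists_affine_nhd z₀
  haveI : Nonempty U₀.toScheme := ⟨⟨z₀, hz₀⟩⟩
  obtain ⟨U, ⟨u₀, hu₀⟩, hU⟩ := h U₀.toScheme (U₀.ι ≫ j) (isIntegral_of_isOpenImmersion U₀.ι) hU₀
    inferInstance inferInstance
  let W : Z.Opens := U₀.ι ''ᵁ U
  let C : Closeds T := ⟨j '' (W : Set Z)ᶜ, j.isClosedEmbedding.isClosedMap _ W.isOpen.isClosed_compl⟩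
  have hC : C < Y := lt_of_le_of_ne ((Set.image_subset_range _ _).trans hr.le) fun h => by
    have : j (U₀.ι u₀) ∈ (C : Set T) := (congrArg SetLike.coe h).ge (hr.le ⟨_, rfl⟩)
    obtain ⟨z, hz, hzz⟩ := this
    exact hz (j.isClosedEmbedding.injective hzz ▸ ⟨u₀, hu₀, rfl⟩)
  refine hmono _ _ (hor _ _ hU (ih C hC)) ?_
  rintro L ⟨t, h1, h2, h3⟩
  by_cases hcase : t default ∈ (C : Set T)
  · exact Or.inr ⟨t, h1, by rintro _ ⟨p, rfl⟩; rw [Subsingleton.elim p default]; exact hcase, h3⟩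
  left
  have hk := DvrProperLib.ker_le_ker_of_range_subset j t (h2.trans hr.ge)
  let z := IsClosedImmersion.lift j t hk
  have hz : z ≫ j = t := IsClosedImmersion.lift_fac _ _ _
  have hzW : ∀ p, z p ∈ W := fun p => by
    by_contra hn
    refine hcase ⟨z p, hn, ?_⟩
    rw [Subsingleton.elim p default, ← hz]
    rfl
  have hzU : Set.range z ⊆ Set.range U₀.ι := by
    rintro _ ⟨p, rfl⟩
    obtain ⟨u, -, hu⟩ := hzW p
    exact ⟨u, hu⟩
  let s := IsOpenImmersion.lift U₀.ι z hzU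
  have hs : s ≫ U₀.ι = z := IsOpenImmersion.lift_fac _ _ _
  have hse : s ≫ U₀.ι ≫ j = t := by rw [← Category.assoc, hs, hz]
  refine ⟨s, by rw [← Category.assoc, hse, h1], ?_, by rw [hse]; exact h3⟩
  rintro _ ⟨p, rfl⟩
  obtain ⟨u, hu, hup⟩ := hzW p
  have : U₀.ι (s p) = U₀.ι u := by
    exact (congrArg (fun m => m.base p) hs).trans hup.symm
  rwa [U₀.ι.isOpenEmbedding.injective this]

end

/-- **Finitely many classes modulo algebraic equivalence.** -/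
theorem exists_classes (k : Type u) [Field k] [IsAlgClosed k] (X : Scheme.{u}) [X.Over (Spec (CommRingCat.of k))]
    [IsProper (X ↘ Spec (CommRingCat.of k))] {P : X.Modules → Prop} (hP : Pic13.IsBounded k X P) :
    ∃ s : Finset X.Modules, ∀ L, PicF.IsInvertible L → P L →
      ∃ M ∈ s, ∃ N, PicF.IsInvertible N ∧ Pic13.IsAlgEquivZero k X N ∧ Nonempty (L ≅ CohB1.tensorMod M N) := by
  classical
  obtain ⟨T, q, hl, hq, F, hF, hm⟩ := hP
  haveI := hl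
  haveI := hq
  let G : (X.Modules → Prop) → Prop := fun Q => ∃ s : Finset X.Modules, ∀ L, Q L →
    ∃ M ∈ s, ∃ N, PicF.IsInvertible N ∧ Pic13.IsAlgEquivZero k X N ∧ Nonempty (L ≅ CohB1.tensorMod M N)
  obtain ⟨s, hs⟩ : G (fun L => ∃ t, t ≫ q = 𝟙 _ ∧ PicF.IsInvertible L ∧ ∃ ht : t ≫ q = 𝟙 _,
      Nonempty (Pic13.fibreMod k X q t ht F ≅ L)) := by
    refine good_of_generic k X G ⟨∅, fun _ h => h.elim⟩ (fun P₁ P₂ ⟨s₁, h₁⟩ ⟨s₂, h₂⟩ => ⟨s₁ ∪ s₂, fun L hL => ?_⟩)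
      (fun P₁ P₂ ⟨s₂, h₂⟩ h => ⟨s₂, fun L hL => h₂ L (h L hL)⟩) q _ fun S e hS _ hel heq => ?_
    · rcases hL with hL | hL
      · obtain ⟨M, hM, r⟩ := h₁ L hL; exact ⟨M, Finset.mem_union_left _ hM, r⟩
      · obtain ⟨M, hM, r⟩ := h₂ L hL; exact ⟨M, Finset.mem_union_right _ hM, r⟩
    haveI := hS
    haveI := hel
    haveI := heq
    haveI : IsLocallyNoetherian S := LocallyOfFiniteType.isLocallyNoetherian (e ≫ q)
    haveI : CompactSpace S := QuasiCompact.compactSpace_of_compactSpace (e ≫ q)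
    haveI : AlgebraicGeometry.IsNoetherian S := {}
    obtain ⟨U, hU, F₁, hF₁, hfl, hfib⟩ := exists_flat_family k q e F hF
    refine ⟨U, hU, ?_⟩
    by_cases hne : ∃ (M : X.Modules) (s : Spec (CommRingCat.of k) ⟶ S), s ≫ e ≫ q = 𝟙 _ ∧ Set.range s ⊆ U ∧
        PicF.IsInvertible M ∧ ∃ ht : (s ≫ e) ≫ q = 𝟙 _, Nonempty (Pic13.fibreMod k X q (s ≫ e) ht F ≅ M)
    swap
    · exact ⟨∅, fun L ⟨s, a, b, c, d⟩ => (hne ⟨L, s, a, b, c, d⟩).elim⟩
    obtain ⟨M₀, s₀, hs₀, hs₀U, hM₀, ht₀, ⟨i₀⟩⟩ := hne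
    obtain ⟨M₀', ⟨e₀⟩⟩ := NumTrivLib.exists_inverse hM₀
    haveI : Nonempty U.toScheme := ⟨⟨s₀ default, hs₀U ⟨_, rfl⟩⟩⟩
    haveI : IsIntegral U.toScheme := isIntegral_of_isOpenImmersion U.ι
    haveI : QuasiCompact U.ι := inferInstance
    refine ⟨{M₀}, ?_⟩
    rintro L ⟨s, hs, hsU, hL, ht, ⟨i⟩⟩
    obtain ⟨w₀, hw₀, ⟨a₀⟩⟩ := hfib s₀ hs₀ ht₀ hs₀U
    obtain ⟨w, hw, ⟨a⟩⟩ := hfib s hs ht hsU
    refine ⟨M₀, Finset.mem_singleton_self _, CohB1.tensorMod L M₀',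
      HilbPolyLib.isInvertible_tensor hL (IntMultLib.isInvertible_of_inverse hM₀ e₀),
      algEquiv_of_flat k (U.ι ≫ e ≫ q) hF₁ hfl hM₀ hL e₀ hw₀ hw (a₀ ≪≫ i₀) (a ≪≫ i), ?_⟩
    rw [← CubeConsLib.cl_eq_iff, CubeConsLib.cl_tensor, CubeConsLib.cl_tensor,
      mul_left_comm, ← CubeConsLib.cl_tensor M₀, CubeConsLib.cl_eq_one_iff.2 ⟨e₀⟩, mul_one]
  refine ⟨s, fun L hL hPL => ?_⟩
  obtain ⟨t, ht, hi⟩ := hm L hPL
  exact hs L ⟨t, ht, hL, ht, hi⟩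

end BddFamLib

end
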