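import Groth.Agent.BddFamLib.Kernel
import Groth.Agent.ProjFormLib.Proj
import Groth.Agent.HilbPolyLib.Twist
import Groth.Agent.DevissLib.KilledImm
import Groth.Agent.DevissLib.AnnIdeal
import Groth.Agent.VBP1Lib.Tensor
import Groth.Agent.AmpleDevLib.Devissage
import Groth.Agent.MiscFlat6.CoprodQProj

/-!
# Gluing bounded families along a modification
-/

set_option autoImplicit false
set_option linter.style.haveILetI false
set_option maxHeartbeats 1000000
universe u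

open CategoryTheory CategoryTheory.Limits AlgebraicGeometry TopologicalSpace Opposite
open KFlatLib (pb puSec puSecLE)

noncomputable section

namespace BddFamLib

/-- The pullback of sections along a morphism which is an isomorphism on a chart. -/
theorem bijective_unit_app {Z Y : Scheme.{u}} (π : Z ⟶ Y) (M : Y.Modules) [Coh.IsQCoh M] {W : Y.Opens}
    (hW : IsAffineOpen W) (hW' : IsAffineOpen (π ⁻¹ᵁ W)) (hb : Function.Bijective (π.app W)) :
    Function.Bijective (((Scheme.Modules.pullbackPushforwardAdjunction π).unit.app M).app W) := by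
  have e : π.appLE W (π ⁻¹ᵁ W) le_rfl = π.app W := (π.app_eq_appLE).symm
  obtain ⟨h1, h2⟩ := puSecLE_chart π (le_refl (π ⁻¹ᵁ W)) hW hW' (e ▸ hb.2) M
  have h3 : ∀ m : Γ(M, W), puSecLE π M (le_refl (π ⁻¹ᵁ W)) m = puSec π m := fun m =>
    CohCmpLib.puSecLE_refl π M _ m
  refine ⟨(injective_iff_map_eq_zero _).2 fun m hm => ?_, fun z => ?_⟩
  · have h4 := (h2 m).1 ((h3 m).trans hm)
    rw [show RingHom.ker (π.appLE W (π ⁻¹ᵁ W) le_rfl).hom = ⊥ from
      (RingHom.injective_iff_ker_eq_bot _).1 (e ▸ hb.1), Submodule.bot_smul, Submodule.mem_bot] at h4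
    exact h4
  · obtain ⟨m, hm⟩ := h1 z
    exact ⟨m, (h3 m).symm.trans hm⟩

/-- Over the open where `π` is an isomorphism there are good affine charts. -/
theorem exists_chart_iso {Z Y : Scheme.{u}} (π : Z ⟶ Y) (U : Y.Opens) [IsIso (π ∣_ U)] {x : Y} (hx : x ∈ U) :
    ∃ W : Y.Opens, IsAffineOpen W ∧ IsAffineOpen (π ⁻¹ᵁ W) ∧ W ≤ U ∧ x ∈ W ∧ Function.Bijective (π.app W) := by
  obtain ⟨W₀, hW₀, hxW₀⟩ := QCohLib.exists_affine_nhd (X := U.toScheme) ⟨x, hx⟩
  refine ⟨U.ι ''ᵁ W₀, hW₀.image_of_isOpenImmersion U.ι, ?_, ?_, ⟨⟨x, hx⟩, hxW₀, rfl⟩, ?_⟩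
  · rw [← image_morphismRestrict_preimage]
    exact (hW₀.preimage (π ∣_ U)).image_of_isOpenImmersion _
  · rintro _ ⟨p, -, rfl⟩
    exact p.2
  · haveI hc : IsIso (π ∣_ U).c := inferInstance
    haveI : IsIso ((π ∣_ U).app W₀) := NatIso.isIso_app_of_isIso (π ∣_ U).c (op W₀)
    haveI : IsIso (π.app (U.ι ''ᵁ W₀) ≫ Z.presheaf.map (eqToHom (image_morphismRestrict_preimage π U W₀)).op) := by
      exact morphismRestrict_app π U W₀ ▸ this
    haveI : IsIso (π.app (U.ι ''ᵁ W₀)) := IsIso.of_isIso_comp_right _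
      (Z.presheaf.map (eqToHom (image_morphismRestrict_preimage π U W₀)).op)
    exact ConcreteCategory.bijective_of_isIso (π.app (U.ι ''ᵁ W₀))


/-- The structure sheaf embeds in `π_*` plus a closed subscheme off the open. -/
theorem exists_embedding {Z Y : Scheme.{u}} [IsNoetherian Y] (π : Z ⟶ Y) [IsProper π] (U : Y.Opens)
    [IsIso (π ∣_ U)] :
    ∃ (C Q : Y.Modules) (S : ShortComplex Y.Modules), S.ShortExact ∧ Coh.IsCoh C ∧ Coh.IsCoh Q ∧
      CohB1.support C ⊆ (U : Set Y)ᶜ ∧ CohB1.support Q ⊆ (U : Set Y)ᶜ ∧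
      Nonempty (S.X₁ ≅ Coh.structureModule Y) ∧
      Nonempty (S.X₂ ≅ (Scheme.Modules.pushforward π).obj (pb π (Coh.structureModule Y)) ⊞ C) ∧
      Nonempty (S.X₃ ≅ Q) := by
  classical
  haveI : IsLocallyNoetherian Z := LocallyOfFiniteType.isLocallyNoetherian π
  let O := Coh.structureModule Y
  have hO : Coh.IsCoh O := DevissLib.isCoh_structureModule Y
  haveI := hO.1
  let A := (Scheme.Modules.pushforward π).obj (pb π O)
  have hA : Coh.IsCoh A := FormalCohLib.isCoh_push_proper π (ConsLib.isCoh_pullback π hO)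
  haveI := hA.1
  let η : O ⟶ A := (Scheme.Modules.pullbackPushforwardAdjunction π).unit.app O
  have hηU : ∀ x ∈ U, ∃ W : Y.Opens, IsAffineOpen W ∧ W ≤ U ∧ x ∈ W ∧ Function.Bijective (η.app W) := fun x hx => by
    obtain ⟨W, h1, h2, h3, h4, h5⟩ := exists_chart_iso π U hx
    exact ⟨W, h1, h3, h4, bijective_unit_app π O h1 h2 h5⟩
  let K := kernel η
  have hK : Coh.IsCoh K := QCohLib.isCoh_kernel η hO hA.1
  haveI := hK.1
  have hKsupp : CohB1.support K ⊆ (U : Set Y)ᶜ := fun x hx hxU => by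
    obtain ⟨W, hW, -, hxW, hb⟩ := hηU x hxU
    refine hx (SerreVanLib.subsingleton_stalk_of_sections K hW (subsingleton_of_forall_eq 0 fun z => ?_) hxW)
    refine QCohLib.app_injective_of_mono (kernel.ι η) W (hb.1 ?_)
    rw [map_zero, map_zero]
    exact congr(Scheme.Modules.Hom.app $(kernel.condition η) W z)
  let I := DevissLib.annIdeal K hK.2
  obtain ⟨cov, hcov⟩ := isCompact_univ.elim_finite_subcover (fun W : ↥Y.affineOpens => ((W : Y.Opens) : Set Y))
    (fun W => W.1.isOpen) (fun x _ => by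
      obtain ⟨W, hW, hxW, -⟩ := exists_isAffineOpen_mem_and_subset (x := x) (U := ⊤) trivial
      exact Set.mem_iUnion.2 ⟨⟨W, hW⟩, hxW⟩)
  have hAR : ∀ W : ↥Y.affineOpens, ∃ n, ∀ n' ≥ n, ∀ z : Γ(K, W.1),
      ((kernel.ι η).app W.1 z : Γ(O, W.1)) ∈
        ((I.ideal W ^ n' : Ideal Γ(Y, W.1)) • ⊤ : Submodule Γ(Y, W.1) Γ(O, W.1)) → z = 0 := fun W => by
    haveI : IsNoetherianRing Γ(Y, W.1) := IsLocallyNoetherian.component_noetherian W
    haveI : Module.Finite Γ(Y, W.1) Γ(O, W.1) := QCohLib.finite_of_isFT hO.2 W.2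
    let N : Submodule Γ(Y, W.1) Γ(O, W.1) := LinearMap.range (QCohLib.appLin (kernel.ι η) W.1)
    obtain ⟨c, hc⟩ := (I.ideal W).exists_pow_inf_eq_pow_smul N
    refine ⟨c + 1, fun n hn z hz => ?_⟩
    have h1 : (kernel.ι η).app W.1 z ∈ I.ideal W ^ (n - c) • ((I.ideal W ^ c • ⊤) ⊓ N) := by
      rw [← hc n (by omega)]
      exact ⟨hz, ⟨z, rfl⟩⟩
    have h2 : I.ideal W ^ (n - c) • N = ⊥ := by
      refine eq_bot_iff.2 (Submodule.smul_le.2 fun r hr y hy => ?_)
      obtain ⟨w, rfl⟩ := hy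
      rw [Submodule.mem_bot, ← map_smul,
        show r • w = 0 from DevissLib.killed_annIdeal K hK.2 W r (Ideal.pow_le_self (by omega) hr) w, map_zero]
    have h3 := Submodule.smul_mono le_rfl inf_le_right h1
    rw [h2, Submodule.mem_bot] at h3
    exact QCohLib.app_injective_of_mono (kernel.ι η) W.1 (h3.trans (map_zero _).symm)
  choose nf hnf using hAR
  let n := cov.sup nf + 1
  let J : Y.IdealSheafData := I ^ n
  let ι := J.subschemeι
  have hrange : Set.range ι ⊆ (U : Set Y)ᶜ := by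
    rw [Scheme.IdealSheafData.range_subschemeι, Scheme.IdealSheafData.support_pow _ _ (by omega)]
    exact (DevissLib.support_annIdeal K hK.2).le.trans hKsupp
  haveI : IsLocallyNoetherian J.subscheme := LocallyOfFiniteType.isLocallyNoetherian ι
  let C := (Scheme.Modules.pushforward ι).obj (pb ι O)
  have hC : Coh.IsCoh C := FormalCohLib.isCoh_push_proper ι (ConsLib.isCoh_pullback ι hO)
  haveI := hC.1
  have hCsupp : CohB1.support C ⊆ (U : Set Y)ᶜ := (DevissLib.support_push_subset ι _).trans hrange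
  let θ : O ⟶ C := (Scheme.Modules.pullbackPushforwardAdjunction ι).unit.app O
  let φ := biprod.lift η θ
  have hAC : Coh.IsCoh (A ⊞ C) := DevissLib.isCoh_biprod hA hC
  haveI := hAC.1
  haveI : Coh.IsQCoh (kernel φ) := QCohLib.isQCoh_kernel φ
  have hQ : Coh.IsCoh (cokernel φ) := QCohLib.isCoh_cokernel φ hO.1 hAC
  haveI := hQ.1
  haveI : Mono φ := Preadditive.mono_of_kernel_zero (zero_of_source_iso_zero _ (IsZero.isoZero
    (DevissLib.isZero_of_support_empty (Set.eq_empty_iff_forall_notMem.2 fun x hx => by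
      obtain ⟨W, hW, hxW⟩ := Set.mem_iUnion₂.1 (hcov (Set.mem_univ x))
      refine hx (SerreVanLib.subsingleton_stalk_of_sections (kernel φ) W.2 (subsingleton_of_forall_eq 0 fun z => ?_) hxW)
      refine QCohLib.app_injective_of_mono (kernel.ι φ) W.1 ?_
      rw [map_zero]
      let y : Γ(O, W.1) := (kernel.ι φ).app W.1 z
      have h0 : φ.app W.1 y = 0 := congr(Scheme.Modules.Hom.app $(kernel.condition φ) W.1 z)
      have hη : η.app W.1 y = 0 :=
        (congr(Scheme.Modules.Hom.app $((biprod.lift_fst η θ).symm) W.1 y)).trans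
          ((congrArg ((biprod.fst : A ⊞ C ⟶ A).app W.1) h0).trans (map_zero _))
      have hθ : θ.app W.1 y = 0 :=
        (congr(Scheme.Modules.Hom.app $((biprod.lift_snd η θ).symm) W.1 y)).trans
          ((congrArg ((biprod.snd : A ⊞ C ⟶ C).app W.1) h0).trans (map_zero _))
      obtain ⟨w, hw⟩ := (RichLib.IsFPAffine.kernelEquiv η W.1).surjective ⟨y, hη⟩
      have hw' : (kernel.ι η).app W.1 w = y := congrArg Subtype.val hw
      have e : ι.appLE W.1 (ι ⁻¹ᵁ W.1) le_rfl = ι.app W.1 := (ι.app_eq_appLE).symm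
      obtain ⟨-, hker⟩ := puSecLE_chart ι (le_refl (ι ⁻¹ᵁ W.1)) W.2 (W.2.preimage ι)
        (e ▸ ι.app_surjective W.1 W.2) O
      have hy := (hker y).1 ((CohCmpLib.puSecLE_refl ι O _ y).trans hθ)
      have hI : RingHom.ker (ι.appLE W.1 (ι ⁻¹ᵁ W.1) le_rfl).hom = I.ideal W ^ n :=
        (congrArg (fun m => RingHom.ker (CommRingCat.Hom.hom m)) e).trans (J.ker_subschemeι_app W)
      rw [hI, ← hw'] at hy
      have := hnf W n ((Finset.le_sup (f := nf) hW).trans (Nat.le_succ _)) w hy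
      show y = 0
      rw [← hw', this, map_zero]))))
  have hQsupp : CohB1.support (cokernel φ) ⊆ (U : Set Y)ᶜ := fun x hx hxU => by
    obtain ⟨W, hW, hWU, hxW, hb⟩ := hηU x hxU
    refine hx (SerreVanLib.subsingleton_stalk_of_sections (cokernel φ) hW (subsingleton_of_forall_eq 0 fun z => ?_) hxW)
    obtain ⟨y, rfl⟩ := RichLib.IsFPAffine.appLin_surjective (cokernel.π φ) hW z
    obtain ⟨w, hw⟩ := hb.2 ((biprod.fst : A ⊞ C ⟶ A).app W y)
    have hbot : ι ⁻¹ᵁ W = ⊥ := by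
      ext p
      exact ⟨fun hp => hrange ⟨p, rfl⟩ (hWU hp), fun h => h.elim⟩
    have hy : φ.app W w = y := sub_eq_zero.1 (DevissLib.app_biprod_ext _ ?_ ?_)
    · rw [← hy]
      exact congr(Scheme.Modules.Hom.app $(cokernel.condition φ) W w)
    · rw [map_sub, sub_eq_zero]
      exact (congr(Scheme.Modules.Hom.app $(biprod.lift_fst η θ) W w)).trans hw
    · haveI : Subsingleton Γ(pb ι O, ι ⁻¹ᵁ W) := MiscFlat6.subsingleton_bot (pb ι O) hbot
      exact @Subsingleton.elim Γ(pb ι O, ι ⁻¹ᵁ W) _ _ _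
  exact ⟨C, cokernel φ, ShortComplex.mk φ (cokernel.π φ) (cokernel.condition φ),
    ShortComplex.ShortExact.mk (ShortComplex.exact_cokernel φ), hC, hQ, hCsupp, hQsupp,
    ⟨Iso.refl _⟩, ⟨Iso.refl _⟩, ⟨Iso.refl _⟩⟩

variable (k : Type u) [Field k] {Y : Scheme.{u}} [Y.Over (Spec (CommRingCat.of k))]
  [IsProper (Y ↘ Spec (CommRingCat.of k))]

/-- Boundedness of the restrictions gives boundedness of tensor products with a module supported there. -/
theorem isBounded_off {P : Y.Modules → Prop} (hP : ∀ M, P M → PicF.IsInvertible M) (U : Y.Opens)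
    (hV : ∀ (V : Scheme.{u}) [V.Over (Spec (CommRingCat.of k))] [IsProper (V ↘ Spec (CommRingCat.of k))]
      (ι : V ⟶ Y) [IsClosedImmersion ι], ι ≫ (Y ↘ Spec (CommRingCat.of k)) = V ↘ Spec (CommRingCat.of k) →
      Set.range ι ⊆ (U : Set Y)ᶜ → Pic13.IsBounded k V (fun N => ∃ M, P M ∧ Nonempty (N ≅ pb ι M)))
    {Q : Y.Modules} (hQ : Coh.IsCoh Q) (hs : CohB1.support Q ⊆ (U : Set Y)ᶜ) :
    Pic13.IsBounded k Y (fun M' => ∃ M, P M ∧ Nonempty (M' ≅ CohB1.tensorMod M Q)) := by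
  haveI := CurvLib.isNoetherian k (X := Y)
  haveI := hQ.1
  let I := DevissLib.annIdeal Q hQ.2
  let ι := I.subschemeι
  letI : I.subscheme.Over (Spec (CommRingCat.of k)) := ⟨ι ≫ (Y ↘ Spec (CommRingCat.of k))⟩
  haveI : IsProper (I.subscheme ↘ Spec (CommRingCat.of k)) :=
    inferInstanceAs (IsProper (ι ≫ (Y ↘ Spec (CommRingCat.of k))))
  have hr : Set.range ι ⊆ (U : Set Y)ᶜ := by
    rw [Scheme.IdealSheafData.range_subschemeι]
    exact (DevissLib.support_annIdeal Q hQ.2).le.trans hs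
  have hk : ClSub.KilledByIdeal ι.ker Q := by
    rw [Scheme.IdealSheafData.ker_subschemeι]
    exact DevissLib.killed_annIdeal Q hQ.2
  obtain ⟨G, hG, ⟨g⟩⟩ := DevissLib.exists_coh_of_killed ι hQ hk
  refine NumTrivLib.isBounded_mono
    (isBounded_push k ι rfl (isBounded_tensor k (hV _ ι rfl hr) hG)) ?_
  rintro M' ⟨M, hM, ⟨e⟩⟩
  haveI := ProjFormLib.isIso_projApp ι (E := M) (AmpleDevLib.isFinLocFree_of_isInvertible (hP M hM)) G
  exact ⟨_, ⟨pb ι M, ⟨M, hM, ⟨Iso.refl _⟩⟩, ⟨Iso.refl _⟩⟩, ⟨e ≪≫ HilbPolyLib.congrRight M g.symm ≪≫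
    @asIso _ _ _ _ (ProjFormLib.projApp ι M G) this⟩⟩

/-- **Gluing along a modification.** -/
theorem isBounded_glue {Z : Scheme.{u}} [Z.Over (Spec (CommRingCat.of k))]
    [IsProper (Z ↘ Spec (CommRingCat.of k))] (π : Z ⟶ Y)
    (hπ : π ≫ (Y ↘ Spec (CommRingCat.of k)) = Z ↘ Spec (CommRingCat.of k)) (U : Y.Opens) [IsIso (π ∣_ U)]
    {P : Y.Modules → Prop} (hP : ∀ M, P M → PicF.IsInvertible M)
    (hZ : Pic13.IsBounded k Z (fun N => ∃ M, P M ∧ Nonempty (N ≅ pb π M)))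
    (hV : ∀ (V : Scheme.{u}) [V.Over (Spec (CommRingCat.of k))] [IsProper (V ↘ Spec (CommRingCat.of k))]
      (ι : V ⟶ Y) [IsClosedImmersion ι], ι ≫ (Y ↘ Spec (CommRingCat.of k)) = V ↘ Spec (CommRingCat.of k) →
      Set.range ι ⊆ (U : Set Y)ᶜ → Pic13.IsBounded k V (fun N => ∃ M, P M ∧ Nonempty (N ≅ pb ι M))) :
    Pic13.IsBounded k Y P := by
  haveI := CurvLib.isNoetherian k (X := Y)
  haveI := CurvLib.isNoetherian k (X := Z)
  haveI : IsProper π := by
    haveI : IsProper (π ≫ (Y ↘ Spec (CommRingCat.of k))) := hπ ▸ inferInstance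
    exact IsProper.of_comp π (Y ↘ Spec (CommRingCat.of k))
  obtain ⟨C, Q, S, hS, hC, hQ, hCs, hQs, ⟨e₁⟩, ⟨e₂⟩, ⟨e₃⟩⟩ := exists_embedding π U
  have b₁ := isBounded_push k π hπ
    (isBounded_tensor k hZ (ConsLib.isCoh_pullback π (DevissLib.isCoh_structureModule Y)))
  refine NumTrivLib.isBounded_mono (isBounded_ker k Y (isBounded_biprod k b₁ (isBounded_off k hP U hV hC hCs))
    (isBounded_off k hP U hV hQ hQs)) fun M hM => ?_
  let T := CurvLib.tensorLeft' M
  haveI : T.Additive := VBP1Lib.additive_tensorLeft' M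
  haveI : PreservesBinaryBiproducts T := preservesBinaryBiproducts_of_preservesBiproducts T
  have hproj := ProjFormLib.isIso_projApp π (E := M) (AmpleDevLib.isFinLocFree_of_isInvertible (hP M hM))
    (pb π (Coh.structureModule Y))
  have hT := HilbPolyLib.shortExact_tensor (hP M hM) hS
  refine ⟨T.obj S.X₂, T.obj S.X₃, T.map S.g,
    ⟨_, _, ⟨_, ⟨pb π M, ⟨M, hM, ⟨Iso.refl _⟩⟩, ⟨Iso.refl _⟩⟩,
        ⟨@asIso _ _ _ _ (ProjFormLib.projApp π M (pb π (Coh.structureModule Y))) hproj⟩⟩,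
      ⟨M, hM, ⟨Iso.refl _⟩⟩, ⟨T.mapIso e₂ ≪≫ T.mapBiprod _ _⟩⟩,
    ⟨M, hM, ⟨T.mapIso e₃⟩⟩, ⟨?_⟩⟩
  exact (HilbPolyLib.unitLeft M).symm ≪≫ HilbPolyLib.swapIso _ _ ≪≫ HilbPolyLib.congrRight M e₁.symm ≪≫
    IsLimit.conePointUniqueUpToIso hT.fIsKernel (limit.isLimit _)

end BddFamLib

end
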