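import Groth.Agent.BddFamLib.Ops
import Groth.Agent.BddFamLib.Alg
import Groth.Agent.BddFamLib.Chart
import Groth.Agent.CohCmpLib.LiftSection

/-!
# Homomorphisms between members of families come from homomorphisms of families
-/

set_option autoImplicit false
set_option linter.style.haveILetI false
set_option maxHeartbeats 1000000
universe u

open CategoryTheory CategoryTheory.Limits AlgebraicGeometry TopologicalSpace Opposite
open KFlatLib (pb puSec puSecLE)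
open CohCmpLib (homMod homPull secHom ofHom)
open NumTrivLib (prodMap)

noncomputable section

namespace BddFamLib

variable (k : Type u) [Field k] (X : Scheme.{u}) [X.Over (Spec (CommRingCat.of k))]
  [IsProper (X ↘ Spec (CommRingCat.of k))] {T : Scheme.{u}} (q : T ⟶ Spec (CommRingCat.of k))

local notation "a₀" => X ↘ Spec (CommRingCat.of k)

theorem appLE_of_eq {Y Z : Scheme.{u}} {f g : Y ⟶ Z} (h : f = g) {U : Z.Opens} {V : Y.Opens} (e : V ≤ f ⁻¹ᵁ U)
    (e' : V ≤ g ⁻¹ᵁ U) : f.appLE U V e = g.appLE U V e' := by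
  subst h; rfl

theorem appLE_one {Y : Scheme.{u}} {f : Y ⟶ Y} (h : f = 𝟙 Y) (e : (⊤ : Y.Opens) ≤ f ⁻¹ᵁ ⊤) :
    f.appLE ⊤ ⊤ e = 𝟙 _ := by
  subst h; simp [Scheme.Hom.appLE]

/-- The global functions of `T` at a rational point. -/
abbrev evT (t : Spec (CommRingCat.of k) ⟶ T) : Γ(T, ⊤) →+* Γ(Spec (CommRingCat.of k), ⊤) :=
  (t.appLE ⊤ ⊤ (fun _ _ => trivial)).hom

theorem evT_surjective (t : Spec (CommRingCat.of k) ⟶ T) (ht : t ≫ q = 𝟙 _) : Function.Surjective (evT k t) := by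
  intro c
  refine ⟨q.appLE ⊤ ⊤ (fun _ _ => trivial) c, ?_⟩
  have h := Scheme.Hom.appLE_comp_appLE t q ⊤ ⊤ ⊤ (fun _ _ => trivial) (fun _ _ => trivial)
  exact congr($(h.trans (appLE_one ht _)) c)

theorem exists_inv_evT (t : Spec (CommRingCat.of k) ⟶ T) (ht : t ≫ q = 𝟙 _) (r : Γ(T, ⊤))
    (hr : Set.range t ⊆ T.basicOpen r) : ∃ g : Γ(T, ⊤), evT k t (g * r) = 1 := by
  have h1 : (Spec (CommRingCat.of k)).basicOpen (evT k t r) = ⊤ := by
    refine eq_top_iff.2 fun p _ => ?_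
    have hp : t p ∈ T.basicOpen r := hr ⟨p, rfl⟩
    rw [Scheme.basicOpen_appLE]
    exact ⟨trivial, hp⟩
  have hne : (Scheme.ΓSpecIso (CommRingCat.of k)).commRingCatIsoToRingEquiv (evT k t r) ≠ 0 := fun h0 => by
    rw [map_eq_zero_iff _ (RingEquiv.injective _)] at h0
    rw [h0, Scheme.basicOpen_zero] at h1
    exact bot_ne_top h1
  have hu : IsUnit (evT k t r) := (MulEquiv.isUnit_map _).1 (isUnit_iff_ne_zero.2 hne)
  obtain ⟨c, hc⟩ := hu.exists_left_inv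
  obtain ⟨g, rfl⟩ := evT_surjective k q t ht c
  exact ⟨g, by rw [map_mul, hc]⟩

variable [LocallyOfFiniteType q] [IsIntegral T] [IsAffine T]

/-- **The sheaf of homomorphisms commutes with general rational points.** -/
theorem exists_open_isIso_homPull (A B : (Pic13.prodK k X q).Modules) (hA : Coh.IsCoh A) (hB : Coh.IsCoh B) :
    ∃ r : Γ(T, ⊤), r ≠ 0 ∧ ∀ (t : Spec (CommRingCat.of k) ⟶ T) (ht : t ≫ q = 𝟙 _),
      Set.range t ⊆ T.basicOpen r → IsIso (homPull (Pic13.sliceAt k X q t ht) A B) := by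
  classical
  haveI : IsLocallyNoetherian T := LocallyOfFiniteType.isLocallyNoetherian q
  haveI := isLocallyNoetherian_prodK k X q
  haveI := CurvLib.isNoetherian k (X := X)
  haveI := hA.1
  haveI := hB.1
  have hH : Coh.IsCoh (homMod A B) := HomCohLib.isCoh_homMod hA hB
  haveI := hH.1
  let f := pullback.snd a₀ q
  let p := pullback.fst a₀ q
  have hsq : IsPullback p f a₀ q := IsPullback.of_hasPullback _ _
  obtain ⟨ι, hι⟩ := isCompact_univ.elim_finite_subcover (fun V : ↥X.affineOpens => ((V : X.Opens) : Set X))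
    (fun V => V.1.isOpen) (fun x _ => by
      obtain ⟨V, hV, hxV, -⟩ := exists_isAffineOpen_mem_and_subset (x := x) (U := ⊤) trivial
      exact Set.mem_iUnion.2 ⟨⟨V, hV⟩, hxV⟩)
  let X₀ : X.affineOpens → (Pic13.prodK k X q).Opens := fun V => p ⁻¹ᵁ V.1 ⊓ f ⁻¹ᵁ ⊤
  have hX₀ : ∀ V, IsAffineOpen (X₀ V) := fun V =>
    (LCILocusLib.pullback_chart hsq (isAffineOpen_top _) (isAffineOpen_top T) (fun _ _ => trivial) V.2
      (fun _ _ => trivial)).1
  haveI : Nonempty (⊤ : T.Opens) := ⟨⟨Classical.arbitrary T, trivial⟩⟩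
  haveI : IsDomain Γ(T, ⊤) := IsIntegral.component_integral ⊤
  haveI : IsNoetherianRing Γ(T, ⊤) := IsLocallyNoetherian.component_noetherian ⟨⊤, isAffineOpen_top T⟩
  have key : ∀ V : ↥X.affineOpens, ∃ r : Γ(T, ⊤), r ≠ 0 ∧ ∀ (t : Spec (CommRingCat.of k) ⟶ T) (ht : t ≫ q = 𝟙 _),
      Set.range t ⊆ T.basicOpen r → ∃ O : X.Opens, IsAffineOpen O ∧ V.1 ≤ O ∧
        Function.Bijective ((homPull (Pic13.sliceAt k X q t ht) A B).app O) := fun V => by
    have e₀ : X₀ V ≤ f ⁻¹ᵁ ⊤ := fun _ _ => trivial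
    have hft := f.finiteType_appLE (isAffineOpen_top T) (hX₀ V) e₀
    letI : Algebra Γ(T, ⊤) Γ(Pic13.prodK k X q, X₀ V) := (f.appLE ⊤ (X₀ V) e₀).hom.toAlgebra
    haveI : Algebra.FiniteType Γ(T, ⊤) Γ(Pic13.prodK k X q, X₀ V) := hft
    letI : Module Γ(T, ⊤) Γ(A, X₀ V) := Module.compHom _ (algebraMap Γ(T, ⊤) Γ(Pic13.prodK k X q, X₀ V))
    haveI : IsScalarTower Γ(T, ⊤) Γ(Pic13.prodK k X q, X₀ V) Γ(A, X₀ V) :=
      IsScalarTower.of_algebraMap_smul fun _ _ => rfl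
    letI : Module Γ(T, ⊤) Γ(B, X₀ V) := Module.compHom _ (algebraMap Γ(T, ⊤) Γ(Pic13.prodK k X q, X₀ V))
    haveI : IsScalarTower Γ(T, ⊤) Γ(Pic13.prodK k X q, X₀ V) Γ(B, X₀ V) :=
      IsScalarTower.of_algebraMap_smul fun _ _ => rfl
    haveI : IsNoetherianRing Γ(Pic13.prodK k X q, X₀ V) :=
      IsLocallyNoetherian.component_noetherian ⟨X₀ V, hX₀ V⟩
    haveI := QCohLib.finite_of_isFT hA.2 (hX₀ V)
    haveI := QCohLib.finite_of_isFT hB.2 (hX₀ V)
    haveI := Module.finitePresentation_of_finite Γ(Pic13.prodK k X q, X₀ V) Γ(A, X₀ V)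
    obtain ⟨r, hr, hmod⟩ := exists_hom_mod (R := Γ(T, ⊤)) Γ(Pic13.prodK k X q, X₀ V) Γ(A, X₀ V) Γ(B, X₀ V)
    refine ⟨r, hr, fun t ht htr => ?_⟩
    let s := Pic13.sliceAt k X q t ht
    have hs := NumTrivLib.isPullback_slice k X q t ht
    obtain ⟨hO, hpo⟩ := LCILocusLib.pullback_chart hs (isAffineOpen_top T) (isAffineOpen_top _)
      (fun _ _ => trivial : (⊤ : (Spec (CommRingCat.of k)).Opens) ≤ t ⁻¹ᵁ ⊤) (hX₀ V) e₀
    let O : X.Opens := s ⁻¹ᵁ X₀ V ⊓ a₀ ⁻¹ᵁ ⊤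
    have hle : O ≤ s ⁻¹ᵁ X₀ V := inf_le_left
    letI : Algebra Γ(T, ⊤) Γ(Spec (CommRingCat.of k), ⊤) := (evT k t).toAlgebra
    letI : Algebra Γ(Spec (CommRingCat.of k), ⊤) Γ(X, O) :=
      ((X ↘ Spec (CommRingCat.of k)).appLE ⊤ O inf_le_right).hom.toAlgebra
    letI : Algebra Γ(Pic13.prodK k X q, X₀ V) Γ(X, O) := (s.appLE (X₀ V) O hle).hom.toAlgebra
    letI : Algebra Γ(T, ⊤) Γ(X, O) :=
      ((s.appLE (X₀ V) O hle).hom.comp (f.appLE ⊤ (X₀ V) e₀).hom).toAlgebra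
    haveI : IsScalarTower Γ(T, ⊤) Γ(Pic13.prodK k X q, X₀ V) Γ(X, O) := IsScalarTower.of_algebraMap_eq fun _ => rfl
    haveI : IsScalarTower Γ(T, ⊤) Γ(Spec (CommRingCat.of k), ⊤) Γ(X, O) := IsScalarTower.of_algebraMap_eq fun x =>
      RingHom.congr_fun (congrArg CommRingCat.Hom.hom hpo.w) x
    haveI hP : Algebra.IsPushout Γ(T, ⊤) Γ(Spec (CommRingCat.of k), ⊤) Γ(Pic13.prodK k X q, X₀ V) Γ(X, O) :=
      CommRingCat.isPushout_iff_isPushout.mp hpo.flip
    obtain ⟨hsurj, hker⟩ := baseChange_surjection hP.out (evT_surjective k q t ht)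
    have hI : ∀ (c : Γ(Pic13.prodK k X q, X₀ V)), c ∈ RingHom.ker (s.appLE (X₀ V) O hle).hom ↔
        c ∈ (RingHom.ker (evT k t)).map (algebraMap Γ(T, ⊤) Γ(Pic13.prodK k X q, X₀ V)) := fun c => by
      have h1 : c ∈ RingHom.ker (s.appLE (X₀ V) O hle).hom ↔
          c ∈ RingHom.ker (evT k t) • (⊤ : Submodule Γ(T, ⊤) Γ(Pic13.prodK k X q, X₀ V)) :=
        SetLike.ext_iff.1 hker c
      rw [h1, Ideal.smul_top_eq_map]
      rfl
    have hI' : RingHom.ker (s.appLE (X₀ V) O hle).hom =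
        (RingHom.ker (evT k t)).map (algebraMap Γ(T, ⊤) Γ(Pic13.prodK k X q, X₀ V)) := Ideal.ext hI
    obtain ⟨g, hg⟩ := exists_inv_evT k q t ht r htr
    obtain ⟨m₁, m₂⟩ := hmod (RingHom.ker (evT k t)) ⟨g, RingHom.mem_ker.2 (by rw [map_sub, map_one, hg, sub_self])⟩
    refine ⟨O, hO, fun x hx => ⟨⟨?_, trivial⟩, trivial⟩,
      bijective_homPull_app s hle (hX₀ V) hO hsurj A B ?_ ?_⟩
    · show p (s x) ∈ V.1
      rw [← Scheme.Hom.comp_apply, show s ≫ p = 𝟙 X from pullback.lift_fst _ _ _]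
      exact hx
    · rw [hI']
      intro h hh
      exact mem_map_of_mem_smul _ (m₁ h fun m => mem_smul_of_mem_map _ (hh m))
    · rw [hI']
      exact m₂
  choose r hr hbij using key
  refine ⟨∏ V ∈ ι, r V, Finset.prod_ne_zero_iff.2 fun V _ => hr V, fun t ht htr => ?_⟩
  let s := Pic13.sliceAt k X q t ht
  let φ := homPull s A B
  haveI := isLocallyNoetherian_prodK k X q
  haveI : Coh.IsQCoh (pb s (homMod A B)) := KFlatLib.isQCoh_pullback s _
  haveI : Coh.IsQCoh (homMod (pb s A) (pb s B)) :=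
    (HomCohLib.isCoh_homMod (ConsLib.isCoh_pullback s hA) (ConsLib.isCoh_pullback s hB)).1
  haveI : Coh.IsQCoh (kernel φ) := QCohLib.isQCoh_kernel φ
  have hcok : Coh.IsQCoh (cokernel φ) := (QCohLib.isCoh_cokernel φ inferInstance
    (HomCohLib.isCoh_homMod (ConsLib.isCoh_pullback s hA) (ConsLib.isCoh_pullback s hB))).1
  have hloc : ∀ x : X, ∃ O : X.Opens, IsAffineOpen O ∧ x ∈ O ∧ Function.Bijective (φ.app O) := fun x => by
    obtain ⟨V, hV, hxV⟩ := Set.mem_iUnion₂.1 (hι (Set.mem_univ x))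
    obtain ⟨O, hO, hVO, hb⟩ := hbij V t ht (htr.trans (by
      obtain ⟨d, hd⟩ := Finset.dvd_prod_of_mem r hV
      rw [hd, Scheme.basicOpen_mul]
      exact inf_le_left))
    exact ⟨O, hO, hVO hxV, hb⟩
  haveI : Mono φ := Preadditive.mono_of_kernel_zero (zero_of_source_iso_zero _ (IsZero.isoZero
    (DevissLib.isZero_of_support_empty (Set.eq_empty_iff_forall_notMem.2 fun x hx => by
      obtain ⟨O, hO, hxO, hb⟩ := hloc x
      refine hx (SerreVanLib.subsingleton_stalk_of_sections (kernel φ) hO (subsingleton_of_forall_eq 0 fun z => ?_) hxO)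
      refine QCohLib.app_injective_of_mono (kernel.ι φ) O (hb.1 ?_)
      rw [map_zero, map_zero]
      exact congr(Scheme.Modules.Hom.app $(kernel.condition φ) O z)))))
  haveI : Epi φ := Preadditive.epi_of_isZero_cokernel φ
    (DevissLib.isZero_of_support_empty (Set.eq_empty_iff_forall_notMem.2 fun x hx => by
      obtain ⟨O, hO, hxO, hb⟩ := hloc x
      refine hx (SerreVanLib.subsingleton_stalk_of_sections (cokernel φ) hO (subsingleton_of_forall_eq 0 fun z => ?_) hxO)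
      obtain ⟨y, rfl⟩ := RichLib.IsFPAffine.appLin_surjective (cokernel.π φ) hO z
      obtain ⟨w, rfl⟩ := hb.2 y
      exact congr(Scheme.Modules.Hom.app $(cokernel.condition φ) O w)))
  exact isIso_of_mono_of_epi φ

omit [IsAffine T] in
theorem exists_basicOpen_le {U : T.Opens} [IsAffine T] (hU : (U : Set T).Nonempty) :
    ∃ r : Γ(T, ⊤), r ≠ 0 ∧ T.basicOpen r ≤ U := by
  obtain ⟨x, hx⟩ := hU
  obtain ⟨r, hr, hxr⟩ := (isAffineOpen_top T).exists_basicOpen_le (V := U) ⟨x, hx⟩ trivial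
  exact ⟨r, fun h => by rw [h, Scheme.basicOpen_zero] at hxr; exact hxr, hr⟩

/-- **Sections of the member come from sections of the family, at general points.** -/
theorem exists_open_lift (H : (Pic13.prodK k X q).Modules) (hH : Coh.IsCoh H) :
    ∃ r : Γ(T, ⊤), r ≠ 0 ∧ ∀ (t : Spec (CommRingCat.of k) ⟶ T) (ht : t ≫ q = 𝟙 _),
      Set.range t ⊆ T.basicOpen r →
        Function.Surjective (puSecLE (Pic13.sliceAt k X q t ht) H (U := ⊤) (U' := ⊤) (fun _ _ => trivial)) := by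
  haveI : IsLocallyNoetherian T := LocallyOfFiniteType.isLocallyNoetherian q
  haveI := isLocallyNoetherian_prodK k X q
  haveI := hH.1
  let f := pullback.snd a₀ q
  obtain ⟨U, hU, hfl⟩ := exists_open_flat f (𝟙 T) f (Category.comp_id f) H hH
  obtain ⟨r, hr, hrU⟩ := exists_basicOpen_le hU
  refine ⟨r, hr, fun t ht htr e₀ => ?_⟩
  let W := T.basicOpen r
  let V := f ⁻¹ᵁ W
  have hsqB : IsPullback W.ι (𝟙 W.toScheme) (𝟙 T) W.ι := IsPullback.of_vert_isIso ⟨by simp⟩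
  have hsqA : IsPullback V.ι (f ∣_ W) f W.ι := (isPullback_morphismRestrict f W).flip
  obtain ⟨hflW, hRW⟩ := hfl W hrU V.ι W.ι (f ∣_ W) (𝟙 _) hsqB hsqA
  let s := Pic13.sliceAt k X q t ht
  have hs := NumTrivLib.isPullback_slice k X q t ht
  let tW := IsOpenImmersion.lift W.ι t (by rwa [Scheme.Opens.range_ι])
  have htW : tW ≫ W.ι = t := IsOpenImmersion.lift_fac _ _ _
  let sW : X ⟶ V.toScheme := hsqA.lift s (a₀ ≫ tW) (by rw [hs.w, Category.assoc, htW])
  have hsW : sW ≫ V.ι = s := hsqA.lift_fst _ _ _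
  have hX : IsPullback sW a₀ (f ∣_ W) tW :=
    IsPullback.of_right (by rw [hsW, htW]; exact hs) (hsqA.lift_snd _ _ _) hsqA
  have hY : IsPullback tW (𝟙 (Spec (CommRingCat.of k))) (𝟙 W.toScheme) tW := IsPullback.of_vert_isIso ⟨by simp⟩
  let HV := pb V.ι H
  haveI : Coh.IsQCoh HV := KFlatLib.isQCoh_pullback _ H
  obtain ⟨Δ, ⟨E⟩⟩ := CohCmpLib.exists_sectCmp (f ∣_ W)
  obtain ⟨Δ', ⟨E'⟩⟩ := CohCmpLib.exists_sectCmp a₀
  haveI := Groth.Agent.S16950.result ((f ∣_ W) ≫ 𝟙 _) (𝟙 _) (f ∣_ W) rfl tW tW (𝟙 _) hY sW a₀ hX HV hflW hRW E E'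
    (CohCmpLib.genBC hX.w E E') 0
  haveI := CohCmpLib.isIso_bc0_of_bc (CohCmpLib.genBC hX.w E E') HV
  let bc := CohBC.bc0 (f ∣_ W) tW a₀ sW hX.w HV
  let P := (Scheme.Modules.pushforward (f ∣_ W)).obj HV
  haveI : Coh.IsQCoh P := QCohLib.isQCoh_pushforward _ HV
  let ι₁ := (Scheme.Modules.pullbackComp sW V.ι).hom.app H ≫ (Scheme.Modules.pullbackCongr hsW).hom.app H
  haveI : IsIso ι₁ := inferInstance
  let e' : Γ(pb sW HV, ⊤) := (inv ι₁).app ⊤ e₀
  have he' : ι₁.app ⊤ e' = e₀ := congr($(IsIso.inv_hom_id ι₁).app ⊤ e₀)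
  obtain ⟨z, hz⟩ : ∃ z, bc.app ⊤ z = e' :=
    ⟨(inv bc).app ⊤ e', congr($(IsIso.inv_hom_id bc).app ⊤ e')⟩
  have hWaff : IsAffineOpen (⊤ : W.toScheme.Opens) :=
    haveI : IsAffine W.toScheme := (isAffineOpen_top T).basicOpen r
    isAffineOpen_top _
  have htsurj : Function.Surjective (tW.appLE ⊤ ⊤ (fun _ _ => trivial)) := by
    intro c
    obtain ⟨x, hx⟩ := evT_surjective k q t ht c
    refine ⟨W.ι.appLE ⊤ ⊤ (fun _ _ => trivial) x, ?_⟩
    have h := Scheme.Hom.appLE_comp_appLE tW W.ι ⊤ ⊤ ⊤ (fun _ _ => trivial) (fun _ _ => trivial)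
    exact ((congr($h x)).trans congr($(appLE_of_eq htW (U := ⊤) (V := ⊤) (fun _ _ => trivial) (fun _ _ => trivial)) x)).trans hx
  obtain ⟨m, hm⟩ := (puSecLE_chart tW (fun _ _ => trivial : (⊤ : (Spec (CommRingCat.of k)).Opens) ≤ tW ⁻¹ᵁ ⊤)
    hWaff (isAffineOpen_top _) htsurj P).1 z
  have hbc : bc.app ⊤ (puSec tW m) = puSecLE sW HV (CohCmp.sqLE (f ∣_ W) tW a₀ sW hX.w ⊤) m := by
    rw [← CohCmpLib.bc0Adj_app hX.w HV ⊤ m]
    have h2 : CohBC.bc0Adj (f ∣_ W) tW a₀ sW hX.w HV =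
        (Scheme.Modules.pullbackPushforwardAdjunction tW).unit.app P ≫ (Scheme.Modules.pushforward tW).map bc := by
      exact ((Adjunction.homEquiv_unit _ _ _ _).symm.trans (Equiv.apply_symm_apply _ _)).symm
    rw [h2]
    rfl
  have hm' : puSec tW m = z := (CohCmpLib.puSecLE_refl tW P _ m).symm.trans hm
  rw [hm', hz] at hbc
  -- the section on the open of the product
  obtain ⟨h₀, hh₀⟩ : ∃ h₀ : Γ(H, V), puSecLE V.ι H (fun x _ => x.2 : (⊤ : V.toScheme.Opens) ≤ V.ι ⁻¹ᵁ V) h₀ = m := by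
    let i := (Scheme.Modules.restrictFunctorIsoPullback V.ι).app H
    let m₁ := i.inv.app ⊤ m
    refine ⟨H.presheaf.map (homOfLE V.ι_image_top.ge).op ((H.restrictAppIso V.ι ⊤).hom m₁), ?_⟩
    rw [← CohCmpLib.restrictIso_puSec V.ι H _ (fun x _ => x.2 : (⊤ : V.toScheme.Opens) ≤ V.ι ⁻¹ᵁ V)]
    have e1 : ∀ y : Γ(H, V.ι ''ᵁ ⊤), H.presheaf.map (homOfLE ((V.ι.image_mono (fun x _ => x.2)).trans
        (V.ι.image_preimage_le V))).op (H.presheaf.map (homOfLE V.ι_image_top.ge).op y) = y := fun y => by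
      rw [QCohLib.map_map' H]
      exact congr($(H.presheaf.map_id _) y)
    rw [e1, Iso.hom_inv_id_apply]
    exact congr($(i.inv_hom_id).app ⊤ m)
  have hsV : (⊤ : X.Opens) ≤ s ⁻¹ᵁ V := fun x _ => by
    show f (s x) ∈ W
    rw [← Scheme.Hom.comp_apply, hs.w, Scheme.Hom.comp_apply]
    exact htr ⟨_, rfl⟩
  have key : puSecLE s H hsV h₀ = e₀ := by
    rw [← he', hbc, ← hh₀]
    refine Eq.symm ((congrArg (((Scheme.Modules.pullbackCongr hsW).hom.app H).app ⊤)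
      (CohCmpLib.pullbackComp_puSecLE sW V.ι H h₀ _ _)).trans ?_)
    exact CohCmpLib.pullbackCongr_puSec hsW H h₀ _ hsV
  -- extend
  let PH := (Scheme.Modules.pushforward f).obj H
  haveI : Coh.IsQCoh PH := QCohLib.isQCoh_pushforward f H
  obtain ⟨j, y, hy⟩ := (QCohLib.localizingAt_of_isQCoh (isAffineOpen_top T) PH r).exists_extend
    (show Γ(PH, T.basicOpen r) from h₀)
  obtain ⟨g, hg⟩ := exists_inv_evT k q t ht r htr
  refine ⟨f.appTop (g ^ j) • (show Γ(H, ⊤) from y), ?_⟩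
  have hVle : V ≤ ⊤ := le_top
  have h1 : puSecLE s H (U := ⊤) (U' := ⊤) (fun _ _ => trivial) (f.appTop (g ^ j) • (show Γ(H, ⊤) from y)) =
      puSecLE s H hsV (H.presheaf.map (homOfLE hVle).op (f.appTop (g ^ j) • (show Γ(H, ⊤) from y))) := by
    rw [KFlatLib.puSecLE_apply, KFlatLib.puSecLE_apply]
    refine Eq.trans ?_ (congrArg ((pb s H).presheaf.map (homOfLE hsV).op)
      (QCohLib.app_map ((Scheme.Modules.pullbackPushforwardAdjunction s).unit.app H) (homOfLE hVle) _)).symm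
    exact (QCohLib.map_map' (pb s H) (homOfLE hsV) (homOfLE (s.preimage_mono hVle)) _).symm
  have hy' : H.presheaf.map (homOfLE hVle).op (show Γ(H, ⊤) from y) =
      f.app W ((T.presheaf.map (homOfLE (T.basicOpen_le r)).op r) ^ j) • h₀ := hy
  rw [h1, Scheme.Modules.map_smul, hy', smul_smul, KFlatLib.puSecLE_smul, key]
  have hc : s.appLE V ⊤ hsV ((Pic13.prodK k X q).presheaf.map (homOfLE hVle).op (f.appTop (g ^ j)) *
      f.app W ((T.presheaf.map (homOfLE (T.basicOpen_le r)).op r) ^ j)) = 1 := by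
    have e1 : f.app W (T.presheaf.map (homOfLE (T.basicOpen_le r)).op r) =
        (Pic13.prodK k X q).presheaf.map (homOfLE hVle).op (f.appTop r) :=
      congr($(f.naturality (homOfLE (T.basicOpen_le r)).op) r)
    rw [map_pow (f.app W).hom, e1, ← map_pow, ← map_mul, ← map_pow, ← map_mul, ← mul_pow, map_pow, map_pow, map_pow]
    have e2 : s.appLE V ⊤ hsV ((Pic13.prodK k X q).presheaf.map (homOfLE hVle).op (f.appTop (g * r))) =
        (X ↘ Spec (CommRingCat.of k)).appLE ⊤ ⊤ (fun _ _ => trivial) (evT k t (g * r)) := by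
      have h2 := Scheme.Hom.appLE_comp_appLE s f ⊤ ⊤ ⊤ (fun _ _ => trivial) (fun _ _ => trivial)
      have h3 := Scheme.Hom.appLE_comp_appLE a₀ t ⊤ ⊤ ⊤ (fun _ _ => trivial) (fun _ _ => trivial)
      have h4 := appLE_of_eq hs.w (U := ⊤) (V := ⊤) (fun _ _ => trivial) (fun _ _ => trivial)
      refine Eq.trans ?_ (congr($(h3.symm) (g * r)))
      refine Eq.trans ?_ (congr($(h2.trans h4) (g * r)))
      refine Eq.trans (congr($(Scheme.Hom.map_appLE s hsV (homOfLE hVle).op) (f.appTop (g * r)))) ?_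
      rw [Scheme.Hom.appTop, Scheme.Hom.app_eq_appLE]
      rfl
    rw [e2, hg, map_one, one_pow]
  exact (congrArg (· • e₀) hc).trans (one_smul _ e₀)

/-- **Homomorphisms of general members extend to the family.** -/
theorem exists_open_hom (A B : (Pic13.prodK k X q).Modules) (hA : Coh.IsCoh A) (hB : Coh.IsCoh B) :
    ∃ U : T.Opens, (U : Set T).Nonempty ∧ ∀ (t : Spec (CommRingCat.of k) ⟶ T) (ht : t ≫ q = 𝟙 _),
      Set.range t ⊆ U → Function.Surjective fun u : A ⟶ B =>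
        (Scheme.Modules.pullback (Pic13.sliceAt k X q t ht)).map u := by
  haveI : IsLocallyNoetherian T := LocallyOfFiniteType.isLocallyNoetherian q
  haveI := isLocallyNoetherian_prodK k X q
  obtain ⟨r₁, hr₁, h₁⟩ := exists_open_isIso_homPull k X q A B hA hB
  obtain ⟨r₂, hr₂, h₂⟩ := exists_open_lift k X q (homMod A B) (HomCohLib.isCoh_homMod hA hB)
  haveI : Nonempty (⊤ : T.Opens) := ⟨⟨Classical.arbitrary T, trivial⟩⟩
  haveI : IsDomain Γ(T, ⊤) := IsIntegral.component_integral ⊤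
  refine ⟨T.basicOpen (r₁ * r₂), ?_, fun t ht htr u₀ => ?_⟩
  · rw [Set.nonempty_iff_ne_empty, ne_eq, ← TopologicalSpace.Opens.coe_bot, SetLike.coe_set_eq, basicOpen_eq_bot_iff]
    exact mul_ne_zero hr₁ hr₂
  rw [Scheme.basicOpen_mul] at htr
  let s := Pic13.sliceAt k X q t ht
  haveI := h₁ t ht fun x hx => (htr hx).1
  obtain ⟨h, hh⟩ := h₂ t ht (fun x hx => (htr hx).2) ((inv (homPull s A B)).app ⊤ (ofHom u₀))
  have hm : (homPull s A B).app ⊤ (puSecLE s (homMod A B) (U := ⊤) (U' := ⊤) (fun _ _ => trivial) h) = ofHom u₀ := by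
    rw [hh]
    exact congr($(IsIso.inv_hom_id (homPull s A B)).app ⊤ (ofHom u₀))
  refine ⟨secHom h, ((Scheme.Modules.pullbackPushforwardAdjunction s).homEquiv _ _).injective
    (Scheme.Modules.hom_ext _ _ fun W => ?_)⟩
  rw [Adjunction.homEquiv_unit, Adjunction.homEquiv_unit]
  ext a
  let b : Γ(A, W) := a
  change ((Scheme.Modules.pullback s).map (secHom h)).app (s ⁻¹ᵁ W) (puSec s b) =
    u₀.app (s ⁻¹ᵁ W) (puSec s b)
  rw [KFlatLib.puSec_natural]
  refine ProjFormLib.section_ext _ _ fun z hz => ?_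
  let := (s.stalkMap z).hom.toAlgebra
  obtain ⟨L, L', hL, hL', hLL⟩ := CohCmpLib.exists_homPull_stalk (M := A) (P := B) s z
  have e := hLL ⊤ ⊤ (fun _ _ => trivial) trivial h
  rw [hm, CohCmpLib.hVal_ofHom] at e
  refine Eq.trans ?_ (ProjFormLib.ger_map u₀ z hz _)
  rw [e, LinearMap.comp_apply, LinearMap.comp_apply, LinearEquiv.coe_coe, LinearEquiv.coe_coe, ← hL W hz b,
    LinearEquiv.symm_apply_apply, LinearMap.baseChange_tmul]
  rw [← hL' W hz, ← ProjFormLib.ger_map (secHom h) _ hz b, CohCmpLib.stalk_secHom]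

end BddFamLib

end
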