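import Groth.Agent.BddFamLib.HomGen
import Groth.Agent.AVThetaLib.Scalar
import Groth.Agent.S4654
import Mathlib.AlgebraicGeometry.AffineSpace

/-!
# Kernels of homomorphisms between bounded families
-/

set_option autoImplicit false
set_option linter.style.haveILetI false
set_option maxHeartbeats 1000000
universe u

open CategoryTheory CategoryTheory.Limits AlgebraicGeometry TopologicalSpace Opposite
open KFlatLib (pb)
open CohCmpLib (homMod secHom ofHom hVal happ ger_happ)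
open ProjFormLib (ger res section_ext ger_map)
open StabLib (smulHom smulHom_app)
open NumTrivLib (prodMap)

noncomputable section

namespace BddFamLib

theorem secHom_ofHom {Z : Scheme.{u}} {M P : Z.Modules} (u : M ⟶ P) : secHom (ofHom u) = u :=
  Scheme.Modules.hom_ext _ _ fun U => ConcreteCategory.hom_ext _ _ fun m => section_ext _ _ fun y hy =>
    (ger_happ (res (homMod M P) (le_top : U ≤ ⊤) (ofHom u)) m y hy).trans (by
      rw [CohCmpLib.hVal_res, CohCmpLib.hVal_ofHom]; exact ger_map u y hy m)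

theorem secHom_smul_add {Z : Scheme.{u}} {M P : Z.Modules} (r : Γ(Z, ⊤)) (h h' : Γ(homMod M P, ⊤)) :
    secHom (r • h + h') = secHom h ≫ smulHom P r + secHom h' :=
  Scheme.Modules.hom_ext _ _ fun U => ConcreteCategory.hom_ext _ _ fun m => section_ext _ _ fun y hy => by
    refine (ger_happ _ m y hy).trans ?_
    rw [CohCmpLib.hVal_res, CohCmpLib.hVal_add, CohCmpLib.hVal_smul, LinearMap.add_apply, LinearMap.smul_apply]
    refine Eq.trans ?_ (ProjFormLib.ger_add P y hy _ _).symm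
    refine congr_arg₂ (· + ·) ?_ (ger_happ (res (homMod M P) (le_top : U ≤ ⊤) h') m y hy).symm
    refine Eq.trans ?_ (ProjFormLib.ger_smul P y hy (Z.presheaf.map (homOfLE (le_top : U ≤ ⊤)).op r) _).symm
    exact congr_arg₂ (· • ·) (TopCat.Presheaf.germ_res_apply _ _ _ _ _).symm
      (ger_happ (res (homMod M P) (le_top : U ≤ ⊤) h) m y hy).symm

theorem secHom_sum_smul {Z : Scheme.{u}} {M P : Z.Modules} {ι : Type*} (r : ι → Γ(Z, ⊤))
    (h : ι → Γ(homMod M P, ⊤)) (I : Finset ι) :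
    secHom (∑ i ∈ I, r i • h i) = ∑ i ∈ I, secHom (h i) ≫ smulHom P (r i) := by
  classical
  induction I using Finset.induction_on with
  | empty =>
    refine Scheme.Modules.hom_ext _ _ fun U => ConcreteCategory.hom_ext _ _ fun m => section_ext _ _ fun y hy => ?_
    rw [Finset.sum_empty, Finset.sum_empty]
    exact (ger_happ _ m y hy).trans (CohCmpLib.ger_zero P y hy).symm
  | insert a I ha ih => rw [Finset.sum_insert ha, Finset.sum_insert ha, secHom_smul_add, ih]

/-- Kernels are compatible with isomorphic functors. -/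
def kerNatIso {C D : Type*} [Category C] [Category D] [HasZeroMorphisms D] [HasKernels D] {F G : C ⥤ D} (e : F ≅ G)
    {A B : C} (φ : A ⟶ B) : kernel (F.map φ) ≅ kernel (G.map φ) :=
  kernel.mapIso _ _ (e.app A) (e.app B) (e.hom.naturality φ)

/-- Kernels are compatible with isomorphisms of arrows. -/
def kerConj {C : Type*} [Category C] [HasZeroMorphisms C] [HasKernels C] {A A' B B' : C} (a : A ≅ A') (b : B ≅ B')
    (φ : A ⟶ B) : kernel φ ≅ kernel (a.inv ≫ φ ≫ b.hom) :=
  kernel.mapIso _ _ a b (by rw [Iso.hom_inv_id_assoc])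

theorem appTop_sq {W Z S K : Scheme.{u}} {σ : W ⟶ Z} {f : Z ⟶ S} {a : W ⟶ K} {t : K ⟶ S} (h : σ ≫ f = a ≫ t)
    (c : Γ(S, ⊤)) : σ.appTop (f.appTop c) = a.appTop (t.appTop c) := by
  rw [← ConcreteCategory.comp_apply, ← ConcreteCategory.comp_apply, ← Scheme.Hom.comp_appTop,
    ← Scheme.Hom.comp_appTop, h]

/-- Pulling back a combination of homomorphisms. -/
theorem map_smul_sum {Z Z' W : Scheme.{u}} (π : Z' ⟶ Z) (σ' : W ⟶ Z') (σ : W ⟶ Z)
    (n₂ : Scheme.Modules.pullback π ⋙ Scheme.Modules.pullback σ' ≅ Scheme.Modules.pullback σ)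
    {A B : Z.Modules} {ι : Type*} [Fintype ι] (u : ι → (A ⟶ B)) (x : ι → Γ(Z', ⊤)) (r : ι → Γ(Z, ⊤))
    (hv : ∀ i, σ'.appTop (x i) = σ.appTop (r i)) :
    (Scheme.Modules.pullback σ').map (∑ i, (Scheme.Modules.pullback π).map (u i) ≫ smulHom _ (x i)) ≫
        n₂.hom.app B =
      n₂.hom.app A ≫ (Scheme.Modules.pullback σ).map (∑ i, u i ≫ smulHom B (r i)) := by
  haveI : (Scheme.Modules.pullback σ').Additive :=
    (Scheme.Modules.pullbackPushforwardAdjunction _).left_adjoint_additive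
  haveI : (Scheme.Modules.pullback σ).Additive :=
    (Scheme.Modules.pullbackPushforwardAdjunction _).left_adjoint_additive
  rw [Functor.map_sum, Functor.map_sum, Preadditive.comp_sum, Preadditive.sum_comp]
  refine Finset.sum_congr rfl fun j _ => ?_
  rw [Functor.map_comp, Functor.map_comp, AVThetaLib.pullback_map_smulHom, AVThetaLib.pullback_map_smulHom, hv j,
    Category.assoc, AVThetaLib.smulHom_natural, ← Category.assoc, ← Category.assoc]
  exact congrArg (· ≫ _) (n₂.hom.naturality (u j))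

variable (k : Type u) [Field k] (X : Scheme.{u}) [X.Over (Spec (CommRingCat.of k))]
  [IsProper (X ↘ Spec (CommRingCat.of k))]

/-- Restriction to a slice is compatible with base change of the parameter space. -/
def sliceNatIso {S T : Scheme.{u}} (e : S ⟶ T) (q : T ⟶ Spec (CommRingCat.of k))
    (s : Spec (CommRingCat.of k) ⟶ S) (hs : s ≫ e ≫ q = 𝟙 _) (t : Spec (CommRingCat.of k) ⟶ T) (ht : t ≫ q = 𝟙 _)
    (h : s ≫ e = t) :
    Scheme.Modules.pullback (prodMap k X e q) ⋙ Scheme.Modules.pullback (Pic13.sliceAt k X (e ≫ q) s hs) ≅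
      Scheme.Modules.pullback (Pic13.sliceAt k X q t ht) :=
  Scheme.Modules.pullbackComp _ _ ≪≫ Scheme.Modules.pullbackCongr (NumTrivLib.slice_prodMap k X e q s hs t ht h)

/-- The kernel of a member of the family of combinations of given homomorphisms. -/
theorem nonempty_kernel_fam {S' S : Scheme.{u}} (a : S' ⟶ S) (p : S ⟶ Spec (CommRingCat.of k))
    {A B : (Pic13.prodK k X p).Modules} {ι : Type*} [Fintype ι] (h : ι → (A ⟶ B)) (x : ι → Γ(S', ⊤))
    (r : ι → Γ(S, ⊤)) (w : Spec (CommRingCat.of k) ⟶ S') (hw' : w ≫ a ≫ p = 𝟙 _)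
    (s : Spec (CommRingCat.of k) ⟶ S) (hs : s ≫ p = 𝟙 _) (hw : w ≫ a = s)
    (hv : ∀ j, w.appTop (x j) = s.appTop (r j)) :
    Nonempty (kernel ((Scheme.Modules.pullback (Pic13.sliceAt k X (a ≫ p) w hw')).map
        (∑ j, (Scheme.Modules.pullback (prodMap k X a p)).map (h j) ≫
          smulHom _ ((pullback.snd (X ↘ Spec (CommRingCat.of k)) (a ≫ p)).appTop (x j)))) ≅
      kernel ((Scheme.Modules.pullback (Pic13.sliceAt k X p s hs)).map
        (∑ j, h j ≫ smulHom B ((pullback.snd (X ↘ Spec (CommRingCat.of k)) p).appTop (r j))))) :=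
  ⟨kernel.mapIso _ _ ((sliceNatIso k X a p w hw' s hs hw).app A) ((sliceNatIso k X a p w hw' s hs hw).app B)
    (map_smul_sum (prodMap k X a p) (Pic13.sliceAt k X (a ≫ p) w hw') (Pic13.sliceAt k X p s hs)
      (sliceNatIso k X a p w hw' s hs hw) h
      (fun j => (pullback.snd (X ↘ Spec (CommRingCat.of k)) (a ≫ p)).appTop (x j))
      (fun j => (pullback.snd (X ↘ Spec (CommRingCat.of k)) p).appTop (r j)) fun j =>
      (appTop_sq (NumTrivLib.isPullback_slice k X (a ≫ p) w hw').w (x j)).trans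
        ((congrArg (fun c => (X ↘ Spec (CommRingCat.of k)).appTop c) (hv j)).trans
          (appTop_sq (NumTrivLib.isPullback_slice k X p s hs).w (r j)).symm))⟩

/-- **The kernels of the fibres of a homomorphism of families form a bounded family.** -/
theorem isBounded_kerFam {T : Scheme.{u}} (q : T ⟶ Spec (CommRingCat.of k)) [LocallyOfFiniteType q] [QuasiCompact q]
    {A B : (Pic13.prodK k X q).Modules} (hA : Coh.IsCoh A) (hB : Coh.IsCoh B) (Φ : A ⟶ B) :
    Pic13.IsBounded k X (fun L => ∃ t, t ≫ q = 𝟙 _ ∧ ∃ ht : t ≫ q = 𝟙 _,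
      Nonempty (L ≅ kernel ((Scheme.Modules.pullback (Pic13.sliceAt k X q t ht)).map Φ))) := by
  refine isBounded_of_generic k X q _ fun S e hS _ hel heq => ?_
  haveI := hS
  haveI := hel
  haveI := heq
  haveI : IsLocallyNoetherian S := LocallyOfFiniteType.isLocallyNoetherian (e ≫ q)
  haveI : CompactSpace S := QuasiCompact.compactSpace_of_compactSpace (e ≫ q)
  haveI : AlgebraicGeometry.IsNoetherian S := {}
  haveI := isLocallyNoetherian_prodK k X q
  haveI := isLocallyNoetherian_prodK k X (e ≫ q)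
  let PS := Scheme.Modules.pullback (prodMap k X e q)
  let A' := PS.obj A
  let B' := PS.obj B
  let Φ' : A' ⟶ B' := PS.map Φ
  have hA' : Coh.IsCoh A' := ConsLib.isCoh_pullback _ hA
  have hB' : Coh.IsCoh B' := ConsLib.isCoh_pullback _ hB
  have hC' : Coh.IsCoh (cokernel Φ') := QCohLib.isCoh_cokernel Φ' hA'.1 hB'
  let f := pullback.snd (X ↘ Spec (CommRingCat.of k)) (e ≫ q)
  obtain ⟨U₁, hU₁, hfl₁⟩ := Groth.Agent.S4698.result f B' hB'
  obtain ⟨U₂, hU₂, hfl₂⟩ := Groth.Agent.S4698.result f (cokernel Φ') hC'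
  let U := U₁ ⊓ U₂
  have hne : (U : Set S).Nonempty := by
    obtain ⟨x, hx⟩ := hU₁
    obtain ⟨y, hy⟩ := hU₂
    exact ⟨genericPoint S, ((genericPoint_spec S).specializes trivial).mem_open U₁.isOpen hx,
      ((genericPoint_spec S).specializes trivial).mem_open U₂.isOpen hy⟩
  haveI : QuasiCompact U.ι := inferInstance
  let j := prodMap k X U.ι (e ≫ q)
  haveI : IsLocallyNoetherian (Pic13.prodK k X (U.ι ≫ e ≫ q)) := isLocallyNoetherian_prodK k X _
  let f' := pullback.snd (X ↘ Spec (CommRingCat.of k)) (U.ι ≫ e ≫ q)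
  have hsq : IsPullback j f' f U.ι := isPullback_prodMap k X U.ι (e ≫ q)
  let J := Scheme.Modules.pullback j
  haveI : J.IsLeftAdjoint := ⟨_, ⟨Scheme.Modules.pullbackPushforwardAdjunction _⟩⟩
  let A'' := J.obj A'
  let B'' := J.obj B'
  let Φ'' : A'' ⟶ B'' := J.map Φ'
  have hA'' : Coh.IsCoh A'' := ConsLib.isCoh_pullback _ hA'
  have hB'' : Coh.IsCoh B'' := ConsLib.isCoh_pullback _ hB'
  have hmem : ∀ x, f (j x) ∈ U := fun x => by
    rw [← Scheme.Hom.comp_apply, hsq.w]
    exact (f' x).2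
  have hflB : FlatMod.IsFlatOver f' B'' := isFlatOver_pb_open hsq B' fun x => hfl₁ _ (hmem x).1
  have hC'' : Coh.IsCoh (cokernel Φ'') := QCohLib.isCoh_cokernel Φ'' hA''.1 hB''
  have hflC : FlatMod.IsFlatOver f' (cokernel Φ'') := fun x =>
    (RichLib.ModFlat.isFlatOverAt_iso f' (PreservesCokernel.iso J Φ') x).mp
      (isFlatOver_pb_open hsq (cokernel Φ') (fun x => hfl₂ _ (hmem x).2) x)
  let π := cokernel.π Φ''
  haveI := hA''.1
  haveI := hB''.1
  haveI := hC''.1
  have hI : Coh.IsCoh (kernel π) := QCohLib.isCoh_kernel π hB'' hC''.1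
  haveI := hI.1
  have hflI : FlatMod.IsFlatOver f' (kernel π) :=
    (Groth.Agent.S4654.result _ (ShortComplex.mk (kernel.ι π) π (kernel.condition π))
      (ShortComplex.ShortExact.mk (ShortComplex.exact_kernel π)) hI.1 hB''.1 hC''.1 hflC).1 hflB
  let p : A'' ⟶ kernel π := Abelian.factorThruImage Φ''
  haveI : Epi p := inferInstanceAs (Epi (Abelian.factorThruImage Φ''))
  have hp : p ≫ kernel.ι π = Φ'' := Abelian.image.fac Φ''
  have hK : Coh.IsCoh (kernel p) := QCohLib.isCoh_kernel p hA'' hI.1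
  refine ⟨U, hne, U.toScheme, U.ι ≫ e ≫ q, inferInstance, inferInstance, kernel p, hK, ?_⟩
  rintro L ⟨s, hs, hsU, ht, ⟨i⟩⟩
  let w := IsOpenImmersion.lift U.ι s (by rwa [Scheme.Opens.range_ι])
  have hw : w ≫ U.ι = s := IsOpenImmersion.lift_fac _ _ _
  have hw' : w ≫ U.ι ≫ e ≫ q = 𝟙 _ := by rw [← Category.assoc, hw, hs]
  refine ⟨w, hw', ⟨?_ ≪≫ i.symm⟩⟩
  have hsl := NumTrivLib.isPullback_slice k X (U.ι ≫ e ≫ q) w hw'
  let P := Scheme.Modules.pullback (Pic13.sliceAt k X (U.ι ≫ e ≫ q) w hw')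
  haveI : P.IsLeftAdjoint := ⟨_, ⟨Scheme.Modules.pullbackPushforwardAdjunction _⟩⟩
  haveI : Mono (P.map (kernel.ι p)) := QuotSchLib.mono_pullback_kernel hsl p hflI
  haveI : Mono (P.map (kernel.ι π)) := QuotSchLib.mono_pullback_kernel hsl π hflC
  have hseq : (ShortComplex.mk (P.map (kernel.ι p)) (P.map p)
      (by rw [← P.map_comp, kernel.condition, P.map_zero])).Exact :=
    ShortComplex.exact_of_g_is_cokernel _ (CokernelCofork.mapIsColimit
      (CokernelCofork.ofπ p (kernel.condition p))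
      (ShortComplex.ShortExact.mk (S := ShortComplex.mk (kernel.ι p) p (kernel.condition p))
        (ShortComplex.exact_kernel p)).gIsCokernel P)
  have h1 : P.map Φ'' = P.map p ≫ P.map (kernel.ι π) := by rw [← P.map_comp, hp]
  exact IsLimit.conePointUniqueUpToIso hseq.fIsKernel (kernelIsKernel (P.map p)) ≪≫
    (kernelCompMono (P.map p) (P.map (kernel.ι π))).symm ≪≫ kernelIsoOfEq h1.symm ≪≫
    kerNatIso (sliceNatIso k X U.ι (e ≫ q) w hw' s hs hw) Φ' ≪≫
    kerNatIso (sliceNatIso k X e q s hs (s ≫ e) ht rfl) Φ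

/-- **Homomorphisms between two families form a family.** -/
theorem isBounded_kerPair {T : Scheme.{u}} (q : T ⟶ Spec (CommRingCat.of k)) [LocallyOfFiniteType q] [QuasiCompact q]
    {A B : (Pic13.prodK k X q).Modules} (hA : Coh.IsCoh A) (hB : Coh.IsCoh B) :
    Pic13.IsBounded k X (fun L => ∃ t, t ≫ q = 𝟙 _ ∧ ∃ (ht : t ≫ q = 𝟙 _)
      (φ : Pic13.fibreMod k X q t ht A ⟶ Pic13.fibreMod k X q t ht B), Nonempty (L ≅ kernel φ)) := by
  classical
  refine isBounded_of_generic k X q _ fun S e hS hSa hel heq => ?_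
  haveI := hS
  haveI := hSa
  haveI := hel
  haveI := heq
  haveI : IsLocallyNoetherian S := LocallyOfFiniteType.isLocallyNoetherian (e ≫ q)
  haveI := isLocallyNoetherian_prodK k X q
  haveI := isLocallyNoetherian_prodK k X (e ≫ q)
  let PS := Scheme.Modules.pullback (prodMap k X e q)
  have hA' : Coh.IsCoh (PS.obj A) := ConsLib.isCoh_pullback _ hA
  have hB' : Coh.IsCoh (PS.obj B) := ConsLib.isCoh_pullback _ hB
  obtain ⟨U, hU, hlift⟩ := exists_open_hom k X (e ≫ q) (PS.obj A) (PS.obj B) hA' hB'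
  refine ⟨U, hU, ?_⟩
  let f := pullback.snd (X ↘ Spec (CommRingCat.of k)) (e ≫ q)
  let H := homMod (PS.obj A) (PS.obj B)
  have hH : Coh.IsCoh H := HomCohLib.isCoh_homMod hA' hB'
  haveI := hH.1
  have hfH := FormalCohLib.isCoh_push_proper f hH
  haveI : Coh.IsQCoh ((Coh.push f).obj H) := hfH.1
  haveI : Coh.IsQCoh ((Scheme.Modules.pushforward f).obj H) := hfH.1
  haveI : Module.Finite Γ(S, ⊤) Γ((Coh.push f).obj H, ⊤) := QCohLib.finite_of_isFT hfH.2 (isAffineOpen_top S)
  obtain ⟨n, g, hg⟩ := Module.Finite.exists_fin (R := Γ(S, ⊤)) (M := Γ((Coh.push f).obj H, ⊤))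
  let a := AffineSpace (ULift.{u} (Fin n)) S ↘ S
  let Q := Scheme.Modules.pullback (prodMap k X a (e ≫ q))
  haveI : LocallyOfFiniteType (a ≫ e ≫ q) := inferInstance
  haveI : QuasiCompact (a ≫ e ≫ q) := inferInstance
  haveI := isLocallyNoetherian_prodK k X (a ≫ e ≫ q)
  let f' := pullback.snd (X ↘ Spec (CommRingCat.of k)) (a ≫ e ≫ q)
  let hsec : Fin n → Γ(H, ⊤) := g
  let Φ : Q.obj (PS.obj A) ⟶ Q.obj (PS.obj B) :=
    ∑ i, Q.map (secHom (hsec i)) ≫ smulHom _ (f'.appTop (AffineSpace.coord S ⟨i⟩))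
  refine NumTrivLib.isBounded_mono (isBounded_kerFam k X (a ≫ e ≫ q) (ConsLib.isCoh_pullback _ hA')
    (ConsLib.isCoh_pullback _ hB') Φ) ?_
  rintro L ⟨s, hs, hsU, ht, φ, ⟨i⟩⟩
  let n₁ := sliceNatIso k X e q s hs (s ≫ e) ht rfl
  obtain ⟨u, hu⟩ := hlift s hs hsU ((n₁.app A).hom ≫ φ ≫ (n₁.app B).inv)
  have hgtop : (show Γ((Coh.push f).obj H, ⊤) from ofHom u) ∈ Submodule.span Γ(S, ⊤) (Set.range g) := by
    rw [hg]; exact Submodule.mem_top
  obtain ⟨r, hr⟩ := (Submodule.mem_span_range_iff_exists_fun _).1 hgtop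
  have hu' : u = ∑ j, secHom (hsec j) ≫ smulHom _ (f.appTop (r j)) := by
    refine (secHom_ofHom u).symm.trans ?_
    rw [← secHom_sum_smul]
    exact congrArg secHom hr.symm
  let w := AffineSpace.homOfVector s (fun j : ULift.{u} (Fin n) => s.appTop (r j.down))
  have hw : w ≫ a = s := AffineSpace.homOfVector_over _ _
  have hw' : w ≫ a ≫ e ≫ q = 𝟙 _ := by rw [← Category.assoc, hw, hs]
  obtain ⟨iso⟩ := nonempty_kernel_fam k X a (e ≫ q) (fun j => secHom (hsec j))
    (fun j => AffineSpace.coord S ⟨j⟩) r w hw' s hs hw (fun j => AffineSpace.homOfVector_appTop_coord _ _ _)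
  refine ⟨w, hw', hw', ⟨i ≪≫ kerConj (n₁.app A).symm (n₁.app B).symm φ ≪≫ ?_⟩⟩
  exact kernelIsoOfEq (hu.symm.trans (congrArg _ hu')) ≪≫ iso.symm

/-- **The kernels of all homomorphisms between members of two bounded families form a bounded family.** -/
theorem isBounded_ker {P Q : X.Modules → Prop} (hP : Pic13.IsBounded k X P) (hQ : Pic13.IsBounded k X Q) :
    Pic13.IsBounded k X (fun L => ∃ (M N : X.Modules) (φ : M ⟶ N), P M ∧ Q N ∧ Nonempty (L ≅ kernel φ)) := by
  obtain ⟨T, q, hl, hq, A, B, hA, hB, hm⟩ := exists_pair k hP hQ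
  haveI := hl
  haveI := hq
  refine NumTrivLib.isBounded_mono (isBounded_kerPair k X q hA hB) ?_
  rintro L ⟨M, N, φ, hM, hN, ⟨i⟩⟩
  obtain ⟨t, ht, ⟨a⟩, ⟨b⟩⟩ := hm M N hM hN
  exact ⟨t, ht, ht, _, ⟨i ≪≫ kerConj a.symm b.symm φ⟩⟩

end BddFamLib

end
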