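import Groth.Agent.BddFamLib.Glue
import Groth.Agent.ChowLib.ChowAll
import Groth.Agent.LichtLib.ProjOver
import Groth.Agent.NumTrivLib.Num
import Groth.Agent.NumTrivLib.Desc

/-!
# Numerically trivial modules form a bounded family on every proper scheme
-/

set_option autoImplicit false
set_option linter.style.haveILetI false
set_option maxHeartbeats 1000000
universe u

open CategoryTheory CategoryTheory.Limits AlgebraicGeometry TopologicalSpace Opposite
open KFlatLib (pb)
open NumTrivLib (NT)

noncomputable section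

namespace BddFamLib

variable (k : Type u) [Field k]

/-- Everything on the empty scheme is bounded. -/
theorem isBounded_of_isEmpty (X : Scheme.{u}) [X.Over (Spec (CommRingCat.of k))] [IsEmpty X]
    (P : X.Modules → Prop) : Pic13.IsBounded k X P := by
  refine ⟨Spec (CommRingCat.of k), 𝟙 _, inferInstance, inferInstance,
    Coh.structureModule _, DevissLib.isCoh_structureModule _, fun L _ => ?_⟩
  refine ⟨𝟙 _, Category.id_comp _, ⟨(DevissLib.isZero_of_support_empty ?_).iso (DevissLib.isZero_of_support_empty ?_)⟩⟩ <;>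
    exact Set.eq_empty_iff_forall_notMem.2 fun x _ => isEmptyElim x

/-- **The numerically trivial modules on a proper scheme form a bounded family.** -/
theorem isBounded_NT [IsAlgClosed k] (X : Scheme.{u}) [X.Over (Spec (CommRingCat.of k))]
    [IsProper (X ↘ Spec (CommRingCat.of k))] : Pic13.IsBounded k X (fun L : X.Modules => NT k L) := by
  haveI := CurvLib.isNoetherian k (X := X)
  suffices key : ∀ C : Closeds X, ∀ (V : Scheme.{u}) [V.Over (Spec (CommRingCat.of k))]
      [IsProper (V ↘ Spec (CommRingCat.of k))] (c : V ⟶ X) [IsClosedImmersion c],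
      Set.range c ⊆ C → Pic13.IsBounded k V (fun L : V.Modules => NT k L) from
    key ⊤ X (𝟙 X) fun _ _ => trivial
  intro C
  refine WellFoundedLT.induction (motive := fun C : Closeds X => ∀ (V : Scheme.{u}) [V.Over (Spec (CommRingCat.of k))]
    [IsProper (V ↘ Spec (CommRingCat.of k))] (c : V ⟶ X) [IsClosedImmersion c],
    Set.range c ⊆ C → Pic13.IsBounded k V (fun L : V.Modules => NT k L)) C fun C ih V _ _ c _ hc => ?_
  rcases isEmpty_or_nonempty V with hV | hV
  · exact isBounded_of_isEmpty k V _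
  haveI := CurvLib.isNoetherian k (X := V)
  obtain ⟨n, Z, π, j, hj, hjb, ⟨e', he', heb⟩, W, hW, hπW⟩ := ChowLib.chow_open (V ↘ Spec (CommRingCat.of k))
  haveI := hj
  haveI := he'
  haveI : IsProper π := heb ▸ inferInstance
  letI : Z.Over (Spec (CommRingCat.of k)) := ⟨π ≫ (V ↘ Spec (CommRingCat.of k))⟩
  haveI : IsProper (Z ↘ Spec (CommRingCat.of k)) := inferInstanceAs (IsProper (π ≫ _))
  haveI : IsProper (j ≫ CohB1.ProjSpaceOver.toBase n (Spec (CommRingCat.of k))) := hjb ▸ inferInstance
  haveI : IsProper j := IsProper.of_comp j (CohB1.ProjSpaceOver.toBase n (Spec (CommRingCat.of k)))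
  haveI : IsClosedImmersion j := .of_isPreimmersion _ j.isClosedMap.isClosed_range
  obtain ⟨e, he⟩ := LichtLib.exists_iso_over n k
  have hi : (j ≫ e.inv) ≫ CohB1.ProjSpace.toSpec n k = Z ↘ Spec (CommRingCat.of k) := by
    rw [Category.assoc, ← he, e.inv_hom_id_assoc]
    exact hjb
  have hproj := NumTrivLib.isBounded_NT_proj k (j ≫ e.inv) hi
  refine isBounded_glue k π rfl W (fun M hM => hM.inv) (NumTrivLib.isBounded_mono hproj ?_) ?_
  · rintro N ⟨M, hM, ⟨i⟩⟩
    exact (hM.pullback (g := π) rfl).iso i.symm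
  · intro V' _ _ ι _ hι hr
    let C' : Closeds X := ⟨c '' (W : Set V)ᶜ, c.isClosedEmbedding.isClosedMap _ W.isOpen.isClosed_compl⟩
    have hlt : C' < C := lt_of_le_of_ne ((Set.image_subset_range _ _).trans hc) fun h => by
      obtain ⟨v, hv⟩ := hW
      obtain ⟨w, hw, hwv⟩ := (congrArg SetLike.coe h).ge (hc ⟨v, rfl⟩)
      exact hw (c.isClosedEmbedding.injective hwv ▸ hv)
    refine NumTrivLib.isBounded_mono (ih C' hlt V' (ι ≫ c) ?_) ?_
    · rintro _ ⟨p, rfl⟩
      exact ⟨ι p, hr ⟨p, rfl⟩, rfl⟩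
    · rintro N ⟨M, hM, ⟨i⟩⟩
      exact (hM.pullback hι).iso i.symm

/-- **Numerically trivial implies τ-trivial.** -/
theorem tau_of_NT [IsAlgClosed k] {X : Scheme.{u}} [X.Over (Spec (CommRingCat.of k))]
    [IsProper (X ↘ Spec (CommRingCat.of k))] {L : X.Modules} (hL : NT k L) : Pic13.IsTauEquivZero k X L := by
  obtain ⟨L', ⟨e⟩⟩ := NumTrivLib.exists_inverse hL.inv
  exact NumTrivLib.isTauEquivZero_of_bounded k X hL.inv e (isBounded_NT k X) hL.pow

end BddFamLib

end
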