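import Groth.Agent.BddFamLib.Push
import Groth.Agent.S2297

/-!
# Elementary operations on bounded families
-/

set_option autoImplicit false
set_option linter.style.haveILetI false
set_option maxHeartbeats 1000000
universe u

open CategoryTheory CategoryTheory.Limits AlgebraicGeometry TopologicalSpace Opposite
open KFlatLib (pb)
open NumTrivLib (prodMap)

noncomputable section

namespace BddFamLib

theorem isCoh_tensorMod {Z : Scheme.{u}} {F G : Z.Modules} (hF : Coh.IsCoh F) (hG : Coh.IsCoh G) :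
    Coh.IsCoh (CohB1.tensorMod F G) := by
  haveI := hF.1
  haveI := hG.1
  obtain ⟨h1, h2⟩ := Groth.Agent.S2297.result F G
  exact ⟨h1, h2 hF.2 hG.2⟩

variable (k : Type u) [Field k] {X Y : Scheme.{u}} [X.Over (Spec (CommRingCat.of k))]
  [Y.Over (Spec (CommRingCat.of k))] [IsProper (X ↘ Spec (CommRingCat.of k))]
  [IsProper (Y ↘ Spec (CommRingCat.of k))]

omit [Y.Over (Spec (CommRingCat.of k))] [IsProper (Y ↘ Spec (CommRingCat.of k))] in
/-- Two bounded families over one parameter space. -/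
theorem exists_pair {P Q : X.Modules → Prop} (hP : Pic13.IsBounded k X P) (hQ : Pic13.IsBounded k X Q) :
    ∃ (T : Scheme.{u}) (q : T ⟶ Spec (CommRingCat.of k)), LocallyOfFiniteType q ∧ QuasiCompact q ∧
      ∃ A B : (Pic13.prodK k X q).Modules, Coh.IsCoh A ∧ Coh.IsCoh B ∧ ∀ L M, P L → Q M →
        ∃ (t : Spec (CommRingCat.of k) ⟶ T) (ht : t ≫ q = 𝟙 _),
          Nonempty (Pic13.fibreMod k X q t ht A ≅ L) ∧ Nonempty (Pic13.fibreMod k X q t ht B ≅ M) := by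
  obtain ⟨T₁, q₁, hl₁, hq₁, F, hF, hmF⟩ := hP
  obtain ⟨T₂, q₂, hl₂, hq₂, G, hG, hmG⟩ := hQ
  haveI := hl₁
  haveI := hq₁
  haveI := hl₂
  haveI := hq₂
  let p₁ := pullback.fst q₁ q₂
  let p₂ := pullback.snd q₁ q₂
  have hw : p₁ ≫ q₁ = p₂ ≫ q₂ := pullback.condition
  let ψ : Pic13.prodK k X (p₁ ≫ q₁) ⟶ Pic13.prodK k X (p₂ ≫ q₂) :=
    pullback.map _ _ _ _ (𝟙 X) (𝟙 _) (𝟙 _) (by simp) (by rw [Category.comp_id, Category.id_comp, hw])
  haveI : LocallyOfFiniteType (p₁ ≫ q₁) := inferInstance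
  haveI := isLocallyNoetherian_prodK k X (p₁ ≫ q₁)
  haveI := isLocallyNoetherian_prodK k X (p₂ ≫ q₂)
  refine ⟨_, p₁ ≫ q₁, inferInstance, inferInstance, pb (prodMap k X p₁ q₁) F,
    pb ψ (pb (prodMap k X p₂ q₂) G), ConsLib.isCoh_pullback _ hF,
    ConsLib.isCoh_pullback _ (ConsLib.isCoh_pullback _ hG), fun L M hL hM => ?_⟩
  obtain ⟨t₁, ht₁, ⟨a⟩⟩ := hmF L hL
  obtain ⟨t₂, ht₂, ⟨b⟩⟩ := hmG M hM
  let t := pullback.lift t₁ t₂ (ht₁.trans ht₂.symm)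
  have h1 : t ≫ p₁ = t₁ := pullback.lift_fst _ _ _
  have h2 : t ≫ p₂ = t₂ := pullback.lift_snd _ _ _
  have ht : t ≫ p₁ ≫ q₁ = 𝟙 _ := by rw [← Category.assoc, h1, ht₁]
  have ht' : t ≫ p₂ ≫ q₂ = 𝟙 _ := by rw [← Category.assoc, h2, ht₂]
  obtain ⟨e₁⟩ := NumTrivLib.nonempty_fibreMod_prodMap k X p₁ q₁ t ht t₁ ht₁ h1 F
  obtain ⟨e₂⟩ := NumTrivLib.nonempty_fibreMod_prodMap k X p₂ q₂ t ht' t₂ ht₂ h2 G
  refine ⟨t, ht, ⟨e₁ ≪≫ a⟩, ⟨(Scheme.Modules.pullbackComp _ ψ).app _ ≪≫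
    (Scheme.Modules.pullbackCongr ?_).app _ ≪≫ e₂ ≪≫ b⟩⟩
  apply pullback.hom_ext
  · rw [Category.assoc]
    simp only [ψ, Pic13.sliceAt, pullback.map, pullback.lift_fst, Category.comp_id]
  · rw [Category.assoc]
    simp only [ψ, Pic13.sliceAt, pullback.map, pullback.lift_snd, Category.comp_id]

omit [Y.Over (Spec (CommRingCat.of k))] [IsProper (Y ↘ Spec (CommRingCat.of k))] in
/-- Tensoring with a fixed coherent module. -/
theorem isBounded_tensor {P : X.Modules → Prop} (hP : Pic13.IsBounded k X P) {C : X.Modules} (hC : Coh.IsCoh C) :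
    Pic13.IsBounded k X (fun M => ∃ L, P L ∧ Nonempty (M ≅ CohB1.tensorMod L C)) := by
  obtain ⟨T, q, hl, hq, F, hF, hm⟩ := hP
  haveI := hl
  haveI := isLocallyNoetherian_prodK k X q
  haveI := CurvLib.isNoetherian k (X := X)
  refine ⟨T, q, hl, hq, CohB1.tensorMod F (pb (pullback.fst (X ↘ Spec (CommRingCat.of k)) q) C),
    isCoh_tensorMod hF (ConsLib.isCoh_pullback _ hC), ?_⟩
  rintro M ⟨L, hL, ⟨i⟩⟩
  obtain ⟨t, ht, ⟨a⟩⟩ := hm L hL
  haveI := KFlatLib.isIso_pullθ (Pic13.sliceAt k X q t ht) F (pb (pullback.fst (X ↘ Spec (CommRingCat.of k)) q) C)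
  exact ⟨t, ht, ⟨@asIso _ _ _ _ (KFlatLib.pullθ _ _ _) this ≪≫ HilbPolyLib.congrLeft a _ ≪≫
    HilbPolyLib.congrRight _ ((Scheme.Modules.pullbackComp _ _).app _ ≪≫
      (Scheme.Modules.pullbackCongr (pullback.lift_fst _ _ _)).app _ ≪≫ (Scheme.Modules.pullbackId X).app _) ≪≫
    i.symm⟩⟩

/-- Pulling back along a morphism. -/
theorem isBounded_pullback (g : X ⟶ Y) (hg : g ≫ (Y ↘ Spec (CommRingCat.of k)) = X ↘ Spec (CommRingCat.of k))
    {P : Y.Modules → Prop} (hP : Pic13.IsBounded k Y P) :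
    Pic13.IsBounded k X (fun M => ∃ L, P L ∧ Nonempty (M ≅ pb g L)) := by
  obtain ⟨T, q, hl, hq, F, hF, hm⟩ := hP
  haveI := hl
  haveI := isLocallyNoetherian_prodK k X q
  haveI := isLocallyNoetherian_prodK k Y q
  refine ⟨T, q, hl, hq, pb (mapProd k g hg q) F, ConsLib.isCoh_pullback _ hF, ?_⟩
  rintro M ⟨L, hL, ⟨i⟩⟩
  obtain ⟨t, ht, ⟨a⟩⟩ := hm L hL
  exact ⟨t, ht, ⟨(Scheme.Modules.pullbackComp _ _).app F ≪≫
    (Scheme.Modules.pullbackCongr (isPullback_slice_mapProd k g hg q t ht).w).app F ≪≫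
    ((Scheme.Modules.pullbackComp _ _).app F).symm ≪≫ (Scheme.Modules.pullback g).mapIso a ≪≫ i.symm⟩⟩

omit [Y.Over (Spec (CommRingCat.of k))] [IsProper (Y ↘ Spec (CommRingCat.of k))] in
/-- Direct sums. -/
theorem isBounded_biprod {P Q : X.Modules → Prop} (hP : Pic13.IsBounded k X P) (hQ : Pic13.IsBounded k X Q) :
    Pic13.IsBounded k X (fun M => ∃ L L', P L ∧ Q L' ∧ Nonempty (M ≅ L ⊞ L')) := by
  obtain ⟨T, q, hl, hq, A, B, hA, hB, hm⟩ := exists_pair k hP hQ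
  haveI := hl
  haveI := isLocallyNoetherian_prodK k X q
  refine ⟨T, q, hl, hq, A ⊞ B, DevissLib.isCoh_biprod hA hB, ?_⟩
  rintro M ⟨L, L', hL, hL', ⟨i⟩⟩
  obtain ⟨t, ht, ⟨a⟩, ⟨b⟩⟩ := hm L L' hL hL'
  haveI : (Scheme.Modules.pullback (Pic13.sliceAt k X q t ht)).IsLeftAdjoint :=
    (Scheme.Modules.pullbackPushforwardAdjunction _).isLeftAdjoint
  haveI : PreservesBinaryBiproducts (Scheme.Modules.pullback (Pic13.sliceAt k X q t ht)) :=
    preservesBinaryBiproducts_of_preservesBinaryCoproducts _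
  exact ⟨t, ht, ⟨(Scheme.Modules.pullback _).mapBiprod A B ≪≫ biprod.mapIso a b ≪≫ i.symm⟩⟩

end BddFamLib

end
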