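import Groth.Agent.BddFamLib.Basic
import Groth.Agent.RpushLib.FlatRpush
import Groth.Agent.CohCmpLib.Bc0
import Groth.Agent.CohCmpLib.SectExists
import Groth.Agent.CohCmpLib.GenExists
import Groth.Agent.S16950
import Groth.Agent.S0031
import Groth.Agent.S0036

/-!
# Pushforwards of bounded families are bounded
-/

set_option autoImplicit false
set_option linter.style.haveILetI false
set_option maxHeartbeats 1000000
universe u

open CategoryTheory CategoryTheory.Limits AlgebraicGeometry TopologicalSpace Opposite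
open KFlatLib (pb)
open NumTrivLib (prodMap)

noncomputable section

namespace BddFamLib

/-- Higher direct images vanish in large degrees. -/
theorem exists_isZero_rpush {A B : Scheme.{u}} (f : A ⟶ B) [QuasiCompact f] [QuasiSeparated f] [CompactSpace B] :
    ∃ N : ℕ, ∀ M : A.Modules, Coh.IsQCoh M → ∀ p, N ≤ p → IsZero ((Coh.Rpush f p).obj M) := by
  obtain ⟨N, hN⟩ := Groth.Agent.S0031.result f
  refine ⟨N, fun M hM p hp => DevissLib.isZero_of_support_empty (Set.eq_empty_of_forall_notMem fun y hy => hy ?_)⟩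
  haveI := hM
  obtain ⟨e⟩ := RpushLib.nonempty_toAb_rpush_iso f M p
  have he := (TopCat.Presheaf.stalkFunctor AddCommGrpCat.{u} y).mapIso
    ((CategoryTheory.sheafToPresheaf _ _).mapIso e)
  have h0 : IsZero (TopCat.Presheaf.stalk ((Coh.RpushAb f p).obj (Coh.toAb M)).obj y) :=
    Functor.map_isZero (CategoryTheory.sheafToPresheaf _ _ ⋙ TopCat.Presheaf.stalkFunctor AddCommGrpCat.{u} y)
      (hN M hM p hp)
  have h1 : IsZero (((Coh.Rpush f p).obj M).presheaf.stalk y) := by
    first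
    | exact h0.of_iso he
    | exact h0.of_iso he.symm
  exact AddCommGrpCat.subsingleton_of_isZero h1

theorem isFlatOver_of_isZero {A B : Scheme.{u}} (f : A ⟶ B) {M : A.Modules} (h : IsZero M) :
    FlatMod.IsFlatOver f M := fun x => by
  have h1 : Subsingleton (M.presheaf.stalk x) := by
    by_contra hx
    exact (Set.eq_empty_iff_forall_notMem.1 (DevissLib.support_of_isZero h) x) hx
  letI := FlatMod.moduleStalkOver f M x
  show Module.Flat (B.presheaf.stalk (f.base x)) (M.presheaf.stalk x)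
  haveI : Module.Free (B.presheaf.stalk (f.base x)) (M.presheaf.stalk x) := Module.Free.of_subsingleton _ _
  exact Module.Flat.of_free

/-- **Generic flatness of a module and its higher direct images.** -/
theorem exists_open_flat {A B S : Scheme.{u}} (a : A ⟶ S) (b : B ⟶ S) (f : A ⟶ B) (hf : f ≫ b = a)
    [IsIntegral S] [IsLocallyNoetherian S] [CompactSpace S] [IsProper f] [LocallyOfFiniteType b] [QuasiCompact b]
    (F : A.Modules) (hF : Coh.IsCoh F) :
    ∃ U : S.Opens, (U : Set S).Nonempty ∧ ∀ (W : S.Opens), W ≤ U → ∀ {A₁ B₁ : Scheme.{u}} (jA : A₁ ⟶ A) (jB : B₁ ⟶ B)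
      (fW : A₁ ⟶ B₁) (bW : B₁ ⟶ W) (hsqB : IsPullback jB bW b W.ι) (hsqA : IsPullback jA fW f jB),
      FlatMod.IsFlatOver (fW ≫ bW) (pb jA F) ∧
        ∀ n : ℕ, FlatMod.IsFlatOver bW ((Coh.Rpush fW n).obj (pb jA F)) := by
  haveI : IsLocallyNoetherian B := LocallyOfFiniteType.isLocallyNoetherian b
  haveI : IsLocallyNoetherian A := LocallyOfFiniteType.isLocallyNoetherian f
  haveI : CompactSpace B := QuasiCompact.compactSpace_of_compactSpace b
  haveI : LocallyOfFiniteType a := hf ▸ inferInstance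
  haveI : QuasiCompact a := hf ▸ inferInstance
  haveI := hF.1
  obtain ⟨N, hN⟩ := exists_isZero_rpush f
  obtain ⟨U₀, hU₀, hfl⟩ := Groth.Agent.S4698.result a F hF
  choose V hV hVfl using fun n : ℕ => Groth.Agent.S4698.result b ((Coh.Rpush f n).obj F)
    (Groth.Agent.S0036.result f F hF n)
  have hne : (((Finset.range N).inf V ⊓ U₀ : S.Opens) : Set S).Nonempty := by
    have hgen : ∀ U : S.Opens, (U : Set S).Nonempty → genericPoint S ∈ U := fun U hU => by
      obtain ⟨x, hx⟩ := hU
      exact ((genericPoint_spec S).specializes trivial).mem_open U.isOpen hx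
    exact ⟨genericPoint S, Finset.inf_induction (p := fun U : S.Opens => genericPoint S ∈ U) trivial
      (fun _ h₁ _ h₂ => ⟨h₁, h₂⟩) (fun n _ => hgen _ (hV n)), hgen _ hU₀⟩
  refine ⟨_, hne, fun W hW {A₁ B₁} jA jB fW bW hsqB hsqA => ?_⟩
  have hsq : IsPullback jA (fW ≫ bW) a W.ι := by
    rw [← hf]
    exact hsqA.paste_vert hsqB
  haveI : IsOpenImmersion jB := MorphismProperty.of_isPullback hsqB.flip inferInstance
  haveI : Flat jB := inferInstance
  refine ⟨isFlatOver_pb_open hsq F fun x => ?_, fun n => ?_⟩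
  · refine hfl _ ?_
    have h := congrArg (fun m => m.base x) hsq.w
    exact (hW.trans inf_le_right) (h ▸ ((fW ≫ bW) x).2)
  obtain ⟨e⟩ := RpushLib.nonempty_pullback_rpush_iso hsqA F n
  by_cases hn : n < N
  · intro y
    refine (RichLib.ModFlat.isFlatOverAt_iso bW e y).mp (isFlatOver_pb_open hsqB _ (fun y => hVfl n _ ?_) y)
    have h := congrArg (fun m => m.base y) hsqB.w
    exact (hW.trans (inf_le_left.trans (Finset.inf_le (Finset.mem_range.2 hn)))) (h ▸ (bW y).2)
  · exact isFlatOver_of_isZero bW ((Functor.map_isZero (Scheme.Modules.pullback jB)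
      (hN F inferInstance n (not_lt.1 hn))).of_iso e.symm)

/-- **Generic base change for direct images.** -/
theorem exists_open_bc {A B S : Scheme.{u}} (a : A ⟶ S) (b : B ⟶ S) (f : A ⟶ B) (hf : f ≫ b = a)
    [IsIntegral S] [IsLocallyNoetherian S] [CompactSpace S] [IsProper f] [LocallyOfFiniteType b] [QuasiCompact b]
    (F : A.Modules) (hF : Coh.IsCoh F) :
    ∃ U : S.Opens, (U : Set S).Nonempty ∧ ∀ {A' B' S' : Scheme.{u}} (g : S' ⟶ S) (gA : A' ⟶ A) (gB : B' ⟶ B)
      (b' : B' ⟶ S') (f' : A' ⟶ B') (hB : IsPullback gB b' b g) (hA : IsPullback gA f' f gB),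
      Set.range g ⊆ U → Nonempty (pb gB ((Coh.push f).obj F) ≅ (Coh.push f').obj (pb gA F)) := by
  obtain ⟨W, hne, hfl⟩ := exists_open_flat a b f hf F hF
  haveI := hF.1
  haveI : IsLocallyNoetherian B := LocallyOfFiniteType.isLocallyNoetherian b
  haveI : IsLocallyNoetherian A := LocallyOfFiniteType.isLocallyNoetherian f
  refine ⟨W, hne, fun {A' B' S'} g gA gB b' f' hB hA hg => ?_⟩
  let jB := pullback.fst b W.ι
  let bW := pullback.snd b W.ι
  let jA := pullback.fst f jB
  let fW := pullback.snd f jB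
  have hsqB : IsPullback jB bW b W.ι := IsPullback.of_hasPullback _ _
  have hsqA : IsPullback jA fW f jB := IsPullback.of_hasPullback _ _
  let FW := pb jA F
  haveI : Coh.IsQCoh FW := KFlatLib.isQCoh_pullback jA F
  obtain ⟨hflW, hRW⟩ := hfl W le_rfl jA jB fW bW hsqB hsqA
  -- factor the base change through the open
  have hgW : Set.range g ⊆ Set.range W.ι := by rwa [Scheme.Opens.range_ι]
  let gW := IsOpenImmersion.lift W.ι g hgW
  have hgW' : gW ≫ W.ι = g := IsOpenImmersion.lift_fac _ _ _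
  let gBW : B' ⟶ pullback b W.ι := hsqB.lift gB (b' ≫ gW) (by rw [hB.w, Category.assoc, hgW'])
  have hgB1 : gBW ≫ jB = gB := hsqB.lift_fst _ _ _
  have hBW : IsPullback gBW b' bW gW :=
    IsPullback.of_right (by rw [hgB1, hgW']; exact hB) (hsqB.lift_snd _ _ _) hsqB
  let gAW : A' ⟶ pullback f jB := hsqA.lift gA (f' ≫ gBW) (by rw [hA.w, Category.assoc, hgB1])
  have hgA1 : gAW ≫ jA = gA := hsqA.lift_fst _ _ _
  have hAW : IsPullback gAW f' fW gBW :=
    IsPullback.of_right (by rw [hgA1, hgB1]; exact hA) (hsqA.lift_snd _ _ _) hsqA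
  obtain ⟨Δ, ⟨E⟩⟩ := CohCmpLib.exists_sectCmp fW
  obtain ⟨Δ', ⟨E'⟩⟩ := CohCmpLib.exists_sectCmp f'
  haveI := Groth.Agent.S16950.result (fW ≫ bW) bW fW rfl gW gBW b' hBW gAW f' hAW FW hflW hRW E E'
    (CohCmpLib.genBC hAW.w E E') 0
  haveI := CohCmpLib.isIso_bc0_of_bc (CohCmpLib.genBC hAW.w E E') FW
  haveI : PreservesFiniteLimits (Coh.push f) := CohCmpLib.preservesFiniteLimits_push
  haveI : PreservesFiniteLimits (Coh.push fW) := CohCmpLib.preservesFiniteLimits_push
  obtain ⟨e₀⟩ := RpushLib.nonempty_pullback_rpush_iso hsqA F 0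
  let i₁ : pb jB ((Coh.push f).obj F) ≅ (Coh.push fW).obj FW :=
    (Scheme.Modules.pullback jB).mapIso ((Scheme.Modules.pushforward f).rightDerivedZeroIsoSelf.app F).symm ≪≫
      e₀ ≪≫ (Scheme.Modules.pushforward fW).rightDerivedZeroIsoSelf.app FW
  exact ⟨(Scheme.Modules.pullbackCongr hgB1.symm).app _ ≪≫ ((Scheme.Modules.pullbackComp gBW jB).app _).symm ≪≫
    (Scheme.Modules.pullback gBW).mapIso i₁ ≪≫
    asIso (CohBC.bc0 fW gBW f' gAW hAW.w FW) ≪≫
    (Scheme.Modules.pushforward f').mapIso ((Scheme.Modules.pullbackComp gAW jA).app F ≪≫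
      (Scheme.Modules.pullbackCongr hgA1).app F)⟩

section Family

variable (k : Type u) [Field k] {X Y : Scheme.{u}} [X.Over (Spec (CommRingCat.of k))]
  [Y.Over (Spec (CommRingCat.of k))] [IsProper (X ↘ Spec (CommRingCat.of k))]
  [IsProper (Y ↘ Spec (CommRingCat.of k))] (g : X ⟶ Y)
  (hg : g ≫ (Y ↘ Spec (CommRingCat.of k)) = X ↘ Spec (CommRingCat.of k))

/-- The base change of a morphism along a parameter space. -/
def mapProd {T : Scheme.{u}} (q : T ⟶ Spec (CommRingCat.of k)) : Pic13.prodK k X q ⟶ Pic13.prodK k Y q :=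
  pullback.map _ _ _ _ g (𝟙 T) (𝟙 _) (by rw [Category.comp_id, hg]) (by rw [Category.comp_id, Category.id_comp])

omit [IsProper (X ↘ Spec (CommRingCat.of k))] [IsProper (Y ↘ Spec (CommRingCat.of k))] in
theorem mapProd_fst {T : Scheme.{u}} (q : T ⟶ Spec (CommRingCat.of k)) :
    mapProd k g hg q ≫ pullback.fst _ q = pullback.fst _ q ≫ g := pullback.lift_fst _ _ _

omit [IsProper (X ↘ Spec (CommRingCat.of k))] [IsProper (Y ↘ Spec (CommRingCat.of k))] in
theorem mapProd_snd {T : Scheme.{u}} (q : T ⟶ Spec (CommRingCat.of k)) :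
    mapProd k g hg q ≫ pullback.snd _ q = pullback.snd _ q := (pullback.lift_snd _ _ _).trans (Category.comp_id _)

theorem isPullback_mapProd {T : Scheme.{u}} (q : T ⟶ Spec (CommRingCat.of k)) :
    IsPullback (pullback.fst (X ↘ Spec (CommRingCat.of k)) q) (mapProd k g hg q) g
      (pullback.fst (Y ↘ Spec (CommRingCat.of k)) q) := by
  refine IsPullback.of_bot ?_ (mapProd_fst k g hg q).symm (IsPullback.of_hasPullback _ q)
  rw [mapProd_snd, hg]
  exact IsPullback.of_hasPullback _ _

theorem isPullback_slice_mapProd {T : Scheme.{u}} (q : T ⟶ Spec (CommRingCat.of k))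
    (t : Spec (CommRingCat.of k) ⟶ T) (ht : t ≫ q = 𝟙 _) :
    IsPullback (Pic13.sliceAt k X q t ht) g (mapProd k g hg q) (Pic13.sliceAt k Y q t ht) := by
  refine IsPullback.of_bot ?_ ?_ (NumTrivLib.isPullback_slice k Y q t ht)
  · rw [hg, mapProd_snd]
    exact NumTrivLib.isPullback_slice k X q t ht
  · apply pullback.hom_ext
    · rw [Category.assoc, mapProd_fst, Category.assoc, Pic13.sliceAt, Pic13.sliceAt, pullback.lift_fst_assoc,
        pullback.lift_fst, Category.id_comp, Category.comp_id]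
    · rw [Category.assoc, mapProd_snd, Category.assoc]
      simp only [Pic13.sliceAt, pullback.lift_snd]
      rw [← Category.assoc, hg]

include hg in
/-- **Direct images of a bounded family form a bounded family.** -/
theorem isBounded_push {P : X.Modules → Prop} (hP : Pic13.IsBounded k X P) :
    Pic13.IsBounded k Y (fun M => ∃ L, P L ∧ Nonempty (M ≅ (Coh.push g).obj L)) := by
  obtain ⟨T, q, hl, hq, F, hF, hm⟩ := hP
  haveI := hl
  haveI := hq
  haveI : IsProper g := by
    haveI : IsProper (g ≫ (Y ↘ Spec (CommRingCat.of k))) := hg ▸ inferInstance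
    exact IsProper.of_comp g (Y ↘ Spec (CommRingCat.of k))
  refine NumTrivLib.isBounded_mono (isBounded_of_generic k Y q (fun t M => ∃ ht : t ≫ q = 𝟙 _,
    Nonempty (M ≅ (Coh.push g).obj (Pic13.fibreMod k X q t ht F))) fun S e hS _ hel heq => ?_) ?_
  · haveI := hS
    haveI := hel
    haveI := heq
    haveI : IsLocallyNoetherian S := LocallyOfFiniteType.isLocallyNoetherian (e ≫ q)
    haveI : CompactSpace S := QuasiCompact.compactSpace_of_compactSpace (e ≫ q)
    haveI : IsProper (mapProd k g hg (e ≫ q)) :=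
      MorphismProperty.of_isPullback (isPullback_mapProd k g hg (e ≫ q)) inferInstance
    haveI := isLocallyNoetherian_prodK k X q
    haveI := isLocallyNoetherian_prodK k X (e ≫ q)
    haveI := isLocallyNoetherian_prodK k Y (e ≫ q)
    let FS := pb (prodMap k X e q) F
    have hFS : Coh.IsCoh FS := ConsLib.isCoh_pullback _ hF
    obtain ⟨U, hU, hbc⟩ := exists_open_bc (pullback.snd (X ↘ Spec (CommRingCat.of k)) (e ≫ q))
      (pullback.snd (Y ↘ Spec (CommRingCat.of k)) (e ≫ q)) (mapProd k g hg (e ≫ q)) (mapProd_snd k g hg _) FS hFS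
    refine ⟨U, hU, S, e ≫ q, inferInstance, inferInstance, (Coh.push (mapProd k g hg (e ≫ q))).obj FS,
      FormalCohLib.isCoh_push_proper _ hFS, ?_⟩
    rintro M ⟨s, hs, hsU, ht, ⟨i⟩⟩
    obtain ⟨a⟩ := hbc s _ _ _ _ (NumTrivLib.isPullback_slice k Y (e ≫ q) s hs)
      (isPullback_slice_mapProd k g hg (e ≫ q) s hs) hsU
    obtain ⟨b⟩ := NumTrivLib.nonempty_fibreMod_prodMap k X e q s hs (s ≫ e) ht rfl F
    exact ⟨s, hs, ⟨a ≪≫ (Coh.push g).mapIso b ≪≫ i.symm⟩⟩
  · rintro M ⟨L, hL, ⟨i⟩⟩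
    obtain ⟨t, ht, ⟨j⟩⟩ := hm L hL
    exact ⟨t, ht, ht, ⟨i ≪≫ (Coh.push g).mapIso j.symm⟩⟩

end Family

end BddFamLib

end
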