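import Groth.Agent.BddFamLib.Main
import Groth.Agent.S4278

/-!
# Roots of bounded families, and the classes of τ-trivial modules
-/

set_option autoImplicit false
set_option linter.style.haveILetI false
set_option maxHeartbeats 1000000
universe u

open CategoryTheory CategoryTheory.Limits AlgebraicGeometry TopologicalSpace Opposite
open KFlatLib (pb)
open CubeConsLib (cl cl_eq_iff cl_tensor)
open NumTrivLib (NT prodMap freeBase)

noncomputable section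

namespace BddFamLib

theorem nonempty_pow_tensor {X : Scheme.{u}} (A B : X.Modules) (n : ℕ) :
    Nonempty (CohB1.tensorPow (CohB1.tensorMod A B) n ≅
      CohB1.tensorMod (CohB1.tensorPow A n) (CohB1.tensorPow B n)) := by
  rw [← cl_eq_iff, NumTrivLib.cl_tensorPow, cl_tensor, cl_tensor, NumTrivLib.cl_tensorPow,
    NumTrivLib.cl_tensorPow, mul_pow]

variable (k : Type u) [Field k] {X : Scheme.{u}} [X.Over (Spec (CommRingCat.of k))]
  [IsProper (X ↘ Spec (CommRingCat.of k))]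

/-- Members of one flat family with integral base differ by modules algebraically equivalent to zero. -/
theorem algEquiv_of_flat {S : Scheme.{u}} [IsIntegral S] (qS : S ⟶ Spec (CommRingCat.of k)) [LocallyOfFiniteType qS]
    [QuasiCompact qS] {F : (Pic13.prodK k X qS).Modules} (hF : Coh.IsCoh F)
    (hfl : FlatMod.IsFlatOver (pullback.snd (X ↘ Spec (CommRingCat.of k)) qS) F) {L₀ L L₀' : X.Modules}
    (hL₀ : PicF.IsInvertible L₀) (hL : PicF.IsInvertible L)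
    (e : CohB1.tensorMod L₀ L₀' ≅ Coh.structureModule X)
    {s₀ s : Spec (CommRingCat.of k) ⟶ S} (hs₀ : s₀ ≫ qS = 𝟙 _) (hs : s ≫ qS = 𝟙 _)
    (i₀ : Pic13.fibreMod k X qS s₀ hs₀ F ≅ L₀) (i : Pic13.fibreMod k X qS s hs F ≅ L) :
    Pic13.IsAlgEquivZero k X (CohB1.tensorMod L L₀') := by
  haveI := isLocallyNoetherian_prodK k X qS
  haveI := hF.1
  have hfp : CohB1.IsFP F := QCohLib.isFP_of_isCoh _ hF
  let S₀ := freeBase k X qS F
  have hmem : ∀ (t : Spec (CommRingCat.of k) ⟶ S) (ht : t ≫ qS = 𝟙 _) (M : X.Modules), PicF.IsInvertible M →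
      (Pic13.fibreMod k X qS t ht F ≅ M) → ∀ p, t p ∈ S₀ := fun t ht M hM j p =>
    NumTrivLib.mem_freeBase k X qS F hfp hfl t ht hM j p
  haveI : Nonempty S₀.toScheme := ⟨⟨s₀ default, hmem s₀ hs₀ L₀ hL₀ i₀ default⟩⟩
  haveI : IsIntegral S₀.toScheme := isIntegral_of_isOpenImmersion S₀.ι
  haveI : IsLocallyNoetherian S := LocallyOfFiniteType.isLocallyNoetherian qS
  haveI : CompactSpace S := QuasiCompact.compactSpace_of_compactSpace qS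
  haveI : AlgebraicGeometry.IsNoetherian S := {}
  have hlift : ∀ (t : Spec (CommRingCat.of k) ⟶ S) (ht : t ≫ qS = 𝟙 _) (M : X.Modules), PicF.IsInvertible M →
      (Pic13.fibreMod k X qS t ht F ≅ M) → ∃ (t₀ : Spec (CommRingCat.of k) ⟶ S₀.toScheme)
        (h₀ : t₀ ≫ S₀.ι ≫ qS = 𝟙 _),
        Nonempty (Pic13.fibreMod k X (S₀.ι ≫ qS) t₀ h₀ (CohB1.tensorMod (pb (prodMap k X S₀.ι qS) F)
          (pb (pullback.fst (X ↘ Spec (CommRingCat.of k)) (S₀.ι ≫ qS)) L₀')) ≅ CohB1.tensorMod M L₀') := by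
    intro t ht M hM j
    have hr : Set.range t ⊆ Set.range S₀.ι := by
      rintro _ ⟨p, rfl⟩
      rw [Scheme.Opens.range_ι]
      exact hmem t ht M hM j p
    have hl : IsOpenImmersion.lift S₀.ι t hr ≫ S₀.ι = t := IsOpenImmersion.lift_fac _ _ _
    exact ⟨_, by rw [← Category.assoc, hl, ht],
      NumTrivLib.nonempty_fibre_norm k X S₀.ι qS F _ _ _ _ t ht hl j⟩
  obtain ⟨a, ha, ⟨ia⟩⟩ := hlift s hs L hL i
  obtain ⟨b, hb, ⟨ib⟩⟩ := hlift s₀ hs₀ L₀ hL₀ i₀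
  haveI : QuasiCompact S₀.ι := inferInstance
  refine ⟨S₀.toScheme, S₀.ι ≫ qS, inferInstance, inferInstance, inferInstance, _,
    HilbPolyLib.isInvertible_tensor (NumTrivLib.isInvertible_freeBase k X qS F)
      (AmpleDevLib.isInvertible_pb _ (IntMultLib.isInvertible_of_inverse hL₀ e)), a, b, ha, hb, ⟨ia⟩, ⟨ib ≪≫ e⟩⟩

/-- Restricting a family to an open of flatness. -/
theorem exists_flat_family {T S : Scheme.{u}} (q : T ⟶ Spec (CommRingCat.of k)) [LocallyOfFiniteType q] (e : S ⟶ T)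
    [IsIntegral S] [LocallyOfFiniteType e] [CompactSpace S] (F : (Pic13.prodK k X q).Modules) (hF : Coh.IsCoh F) :
    ∃ U : S.Opens, (U : Set S).Nonempty ∧ ∃ F₁ : (Pic13.prodK k X (U.ι ≫ e ≫ q)).Modules, Coh.IsCoh F₁ ∧
      FlatMod.IsFlatOver (pullback.snd (X ↘ Spec (CommRingCat.of k)) (U.ι ≫ e ≫ q)) F₁ ∧
      ∀ (s : Spec (CommRingCat.of k) ⟶ S) (_ : s ≫ e ≫ q = 𝟙 _) (ht : (s ≫ e) ≫ q = 𝟙 _), Set.range s ⊆ U →
        ∃ (w : Spec (CommRingCat.of k) ⟶ U.toScheme) (hw : w ≫ U.ι ≫ e ≫ q = 𝟙 _),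
          Nonempty (Pic13.fibreMod k X (U.ι ≫ e ≫ q) w hw F₁ ≅ Pic13.fibreMod k X q (s ≫ e) ht F) := by
  haveI : IsLocallyNoetherian S := LocallyOfFiniteType.isLocallyNoetherian (e ≫ q)
  haveI : AlgebraicGeometry.IsNoetherian S := {}
  haveI := isLocallyNoetherian_prodK k X q
  haveI := isLocallyNoetherian_prodK k X (e ≫ q)
  have hFS : Coh.IsCoh (pb (prodMap k X e q) F) := ConsLib.isCoh_pullback _ hF
  obtain ⟨U, hU, hfl⟩ := Groth.Agent.S4698.result (pullback.snd (X ↘ Spec (CommRingCat.of k)) (e ≫ q)) _ hFS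
  have hsq := isPullback_prodMap k X U.ι (e ≫ q)
  haveI := isLocallyNoetherian_prodK k X (U.ι ≫ e ≫ q)
  refine ⟨U, hU, pb (prodMap k X U.ι (e ≫ q)) (pb (prodMap k X e q) F), ConsLib.isCoh_pullback _ hFS,
    isFlatOver_pb_open hsq _ fun x => hfl _ ?_, fun s hs ht hsU => ?_⟩
  · rw [← Scheme.Hom.comp_apply, hsq.w]
    exact ((pullback.snd _ _ : _ ⟶ U.toScheme) x).2
  let w := IsOpenImmersion.lift U.ι s (by rwa [Scheme.Opens.range_ι])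
  have hw : w ≫ U.ι = s := IsOpenImmersion.lift_fac _ _ _
  have hw' : w ≫ U.ι ≫ e ≫ q = 𝟙 _ := by rw [← Category.assoc, hw, hs]
  obtain ⟨a⟩ := NumTrivLib.nonempty_fibreMod_prodMap k X U.ι (e ≫ q) w hw' s hs hw (pb (prodMap k X e q) F)
  obtain ⟨b⟩ := NumTrivLib.nonempty_fibreMod_prodMap k X e q s hs (s ≫ e) ht rfl F
  exact ⟨w, hw', ⟨a ≪≫ b⟩⟩

/-- **Roots of a bounded family form a bounded family.** -/
theorem isBounded_roots [IsAlgClosed k] {n : ℕ} (hn : 0 < n) {P : X.Modules → Prop} (hP : Pic13.IsBounded k X P) :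
    Pic13.IsBounded k X (fun M : X.Modules => PicF.IsInvertible M ∧ ∃ L, P L ∧ Nonempty (CohB1.tensorPow M n ≅ L)) := by
  classical
  obtain ⟨T, q, hl, hq, F, hF, hm⟩ := hP
  haveI := hl
  haveI := hq
  refine NumTrivLib.isBounded_mono (isBounded_of_generic k X q (fun t M => PicF.IsInvertible M ∧ ∃ ht : t ≫ q = 𝟙 _,
    Nonempty (Pic13.fibreMod k X q t ht F ≅ CohB1.tensorPow M n)) fun S e hS _ hel heq => ?_) ?_
  swap
  · rintro M ⟨hM, L, hL, ⟨i⟩⟩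
    obtain ⟨t, ht, ⟨j⟩⟩ := hm L hL
    exact ⟨t, ht, hM, ht, ⟨j ≪≫ i.symm⟩⟩
  haveI := hS
  haveI := hel
  haveI := heq
  haveI : CompactSpace S := QuasiCompact.compactSpace_of_compactSpace (e ≫ q)
  obtain ⟨U, hU, F₁, hF₁, hfl, hfib⟩ := exists_flat_family k q e F hF
  refine ⟨U, hU, ?_⟩
  by_cases hne : ∃ (M : X.Modules) (s : Spec (CommRingCat.of k) ⟶ S), s ≫ e ≫ q = 𝟙 _ ∧ Set.range s ⊆ U ∧
      PicF.IsInvertible M ∧ ∃ ht : (s ≫ e) ≫ q = 𝟙 _,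
        Nonempty (Pic13.fibreMod k X q (s ≫ e) ht F ≅ CohB1.tensorPow M n)
  swap
  · exact NumTrivLib.isBounded_mono (isBounded_empty k X) fun M ⟨s, h1, h2, h3, h4⟩ =>
      hne ⟨M, s, h1, h2, h3, h4⟩
  obtain ⟨M₀, s₀, hs₀, hs₀U, hM₀, ht₀, ⟨i₀⟩⟩ := hne
  obtain ⟨M₀', ⟨e₀⟩⟩ := NumTrivLib.exists_inverse hM₀
  haveI : Nonempty U.toScheme := ⟨⟨s₀ default, hs₀U ⟨_, rfl⟩⟩⟩
  haveI : IsIntegral U.toScheme := isIntegral_of_isOpenImmersion U.ι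
  haveI : IsLocallyNoetherian S := LocallyOfFiniteType.isLocallyNoetherian (e ≫ q)
  haveI : AlgebraicGeometry.IsNoetherian S := {}
  haveI : QuasiCompact U.ι := inferInstance
  refine NumTrivLib.isBounded_mono (isBounded_tensor k (isBounded_NT k X) (CurvLib.isCoh_of_isInvertible hM₀)) ?_
  rintro M ⟨s, hs, hsU, hM, ht, ⟨i⟩⟩
  obtain ⟨w₀, hw₀, ⟨a₀⟩⟩ := hfib s₀ hs₀ ht₀ hs₀U
  obtain ⟨w, hw, ⟨a⟩⟩ := hfib s hs ht hsU
  obtain ⟨c₀⟩ := nonempty_pow_tensor M₀ M₀' n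
  obtain ⟨c₁⟩ := nonempty_pow_tensor M M₀' n
  have hO : Nonempty (CohB1.tensorPow (CohB1.tensorMod M₀ M₀') n ≅ Coh.structureModule X) := by
    rw [← CubeConsLib.cl_eq_one_iff, NumTrivLib.cl_tensorPow, CubeConsLib.cl_eq_one_iff.2 ⟨e₀⟩, one_pow]
  obtain ⟨c₂⟩ := hO
  obtain ⟨T', q', h1, h2, h3, A, hA, u, v, hu, hv, ⟨iu⟩, ⟨iv⟩⟩ := algEquiv_of_flat k (U.ι ≫ e ≫ q) hF₁ hfl
    (AmpleThLib.tensorPow_isInvertible hM₀ n) (AmpleThLib.tensorPow_isInvertible hM n) (c₀.symm ≪≫ c₂) hw₀ hw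
    (a₀ ≪≫ i₀) (a ≪≫ i)
  have hinv : PicF.IsInvertible (CohB1.tensorMod M M₀') :=
    HilbPolyLib.isInvertible_tensor hM (IntMultLib.isInvertible_of_inverse hM₀ e₀)
  have hnt : NT k (CohB1.tensorMod M M₀') := NT.of_isNumEquivZero (k := k) hinv
    (Groth.Agent.S4278.result k X _ hinv
      ⟨n, hn, T', q', h1, h2, h3, A, hA, u, v, hu, hv, ⟨iu ≪≫ c₁.symm⟩, ⟨iv⟩⟩)
  refine ⟨_, hnt, ?_⟩
  rw [← cl_eq_iff, cl_tensor, cl_tensor, mul_assoc, mul_comm (cl M₀') (cl M₀), ← cl_tensor,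
    CubeConsLib.cl_eq_one_iff.2 ⟨e₀⟩, mul_one]

/-- **Preimages of a bounded family under pullback along a surjection form a bounded family.** -/
theorem isBounded_preimage [IsAlgClosed k] {Y : Scheme.{u}} [Y.Over (Spec (CommRingCat.of k))]
    [IsProper (Y ↘ Spec (CommRingCat.of k))] (f : X ⟶ Y)
    (hf : f ≫ (Y ↘ Spec (CommRingCat.of k)) = X ↘ Spec (CommRingCat.of k)) [Surjective f]
    {P : X.Modules → Prop} (hP : Pic13.IsBounded k X P) :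
    Pic13.IsBounded k Y (fun M : Y.Modules => PicF.IsInvertible M ∧ ∃ L, P L ∧ Nonempty (pb f M ≅ L)) := by
  obtain ⟨T, q, hl, hq, F, hF, hm⟩ := hP
  haveI := hl
  haveI := hq
  classical
  refine NumTrivLib.isBounded_mono (isBounded_of_generic k Y q (fun t M => PicF.IsInvertible M ∧ ∃ ht : t ≫ q = 𝟙 _,
    Nonempty (Pic13.fibreMod k X q t ht F ≅ pb f M)) fun S e hS _ hel heq => ?_) ?_
  swap
  · rintro M ⟨hM, L, hL, ⟨i⟩⟩
    obtain ⟨t, ht, ⟨j⟩⟩ := hm L hL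
    exact ⟨t, ht, hM, ht, ⟨j ≪≫ i.symm⟩⟩
  haveI := hS
  haveI := hel
  haveI := heq
  haveI : CompactSpace S := QuasiCompact.compactSpace_of_compactSpace (e ≫ q)
  obtain ⟨U, hU, F₁, hF₁, hfl, hfib⟩ := exists_flat_family k q e F hF
  refine ⟨U, hU, ?_⟩
  by_cases hne : ∃ (M : Y.Modules) (s : Spec (CommRingCat.of k) ⟶ S), s ≫ e ≫ q = 𝟙 _ ∧ Set.range s ⊆ U ∧
      PicF.IsInvertible M ∧ ∃ ht : (s ≫ e) ≫ q = 𝟙 _,
        Nonempty (Pic13.fibreMod k X q (s ≫ e) ht F ≅ pb f M)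
  swap
  · exact NumTrivLib.isBounded_mono (isBounded_empty k Y) fun M ⟨s, h1, h2, h3, h4⟩ =>
      hne ⟨M, s, h1, h2, h3, h4⟩
  obtain ⟨M₀, s₀, hs₀, hs₀U, hM₀, ht₀, ⟨i₀⟩⟩ := hne
  obtain ⟨M₀', ⟨e₀⟩⟩ := NumTrivLib.exists_inverse hM₀
  haveI : Nonempty U.toScheme := ⟨⟨s₀ default, hs₀U ⟨_, rfl⟩⟩⟩
  haveI : IsIntegral U.toScheme := isIntegral_of_isOpenImmersion U.ι
  haveI : IsLocallyNoetherian S := LocallyOfFiniteType.isLocallyNoetherian (e ≫ q)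
  haveI : AlgebraicGeometry.IsNoetherian S := {}
  haveI : QuasiCompact U.ι := inferInstance
  refine NumTrivLib.isBounded_mono (isBounded_tensor k (isBounded_NT k Y) (CurvLib.isCoh_of_isInvertible hM₀)) ?_
  rintro M ⟨s, hs, hsU, hM, ht, ⟨i⟩⟩
  obtain ⟨w₀, hw₀, ⟨a₀⟩⟩ := hfib s₀ hs₀ ht₀ hs₀U
  obtain ⟨w, hw, ⟨a⟩⟩ := hfib s hs ht hsU
  haveI h₀ := KFlatLib.isIso_pullθ f M₀ M₀'
  haveI h₁ := KFlatLib.isIso_pullθ f M M₀'
  have hinv : PicF.IsInvertible (CohB1.tensorMod M M₀') :=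
    HilbPolyLib.isInvertible_tensor hM (IntMultLib.isInvertible_of_inverse hM₀ e₀)
  obtain ⟨T', q', h1, h2, h3, A, hA, u, v, hu, hv, ⟨iu⟩, ⟨iv⟩⟩ := algEquiv_of_flat k (U.ι ≫ e ≫ q) hF₁ hfl
    (AmpleDevLib.isInvertible_pb f hM₀) (AmpleDevLib.isInvertible_pb f hM)
    ((@asIso _ _ _ _ (KFlatLib.pullθ f M₀ M₀') h₀).symm ≪≫ (Scheme.Modules.pullback f).mapIso e₀ ≪≫
      KFlatLib.pullUnitIso f) hw₀ hw (a₀ ≪≫ i₀) (a ≪≫ i)
  have hτ : Pic13.IsTauEquivZero k X (pb f (CohB1.tensorMod M M₀')) :=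
    ⟨1, one_pos, T', q', h1, h2, h3, A, hA, u, v, hu, hv,
      ⟨iu ≪≫ (@asIso _ _ _ _ (KFlatLib.pullθ f M M₀') h₁).symm ≪≫ (HilbPolyLib.unitLeft _).symm⟩, ⟨iv⟩⟩
  have hnt : NT k (CohB1.tensorMod M M₀') := NT.descend hf hinv (NT.of_isNumEquivZero (k := k)
    (AmpleDevLib.isInvertible_pb f hinv) (Groth.Agent.S4278.result k X _ (AmpleDevLib.isInvertible_pb f hinv) hτ))
  refine ⟨_, hnt, ?_⟩
  rw [← cl_eq_iff, cl_tensor, cl_tensor, mul_assoc, mul_comm (cl M₀') (cl M₀), ← cl_tensor,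
    CubeConsLib.cl_eq_one_iff.2 ⟨e₀⟩, mul_one]


end BddFamLib

end
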